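import Cfsg.Agent.Known.SympInvol.Main
import Cfsg.Agent.Known.OmegaSplit
import Mathlib

/-! Involutions of orthogonal groups in characteristic two: frames, values of the form, classes. -/

set_option autoImplicit false
set_option linter.style.haveILetI false
set_option linter.unusedSectionVars false

open Matrix Submodule Cfsg.Lib.Classical Cfsg.Lib.Classical.Refl Cfsg.Lib.SympInvol

namespace Cfsg.Lib.OrthInvol

universe u

variable {F : Type u} [Field F] [Fintype F] [CharP F 2] {ι : Type} [Fintype ι] [DecidableEq ι]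
  (Q : QuadraticForm F (ι → F))

local notation "BQ" => QuadraticMap.polarBilin Q

theorem polar_alt : LinearMap.BilinForm.IsAlt (QuadraticMap.polarBilin Q : LinearMap.BilinForm F (ι → F)) := fun x => by
  show QuadraticMap.polar (⇑Q) x x = 0
  rw [QuadraticMap.polar_self, two_nsmul, CharTwo.add_self_eq_zero]

/-- An isometry as an isometry of the polar form. -/
noncomputable def toBI : Cfsg.isometryGroup F (⇑Q) →* BilinIsom (V := ι → F) BQ where
  toFun g := ⟨LinearEquiv.ofLinearMap (Matrix.toLin' (mat Q g)) (Matrix.toLin' (mat Q g⁻¹))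
      (LinearMap.ext fun x => by
        rw [LinearMap.comp_apply, Matrix.toLin'_apply, Matrix.toLin'_apply, ← mulVec_mul, mul_inv_cancel]
        exact Matrix.one_mulVec x)
      (LinearMap.ext fun x => by
        rw [LinearMap.comp_apply, Matrix.toLin'_apply, Matrix.toLin'_apply]
        exact mulVec_inv_cancel Q g x),
    fun x y => by
      show QuadraticMap.polar (⇑Q) (mat Q g *ᵥ x) (mat Q g *ᵥ y) = QuadraticMap.polar (⇑Q) x y
      simp only [QuadraticMap.polar, ← Matrix.mulVec_add, (mem_iff Q).mp g.2]⟩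
  map_one' := BilinIsom.ext' fun x => Matrix.one_mulVec x
  map_mul' g h := BilinIsom.ext' fun x => mulVec_mul Q g h x

theorem toBI_apply (g : Cfsg.isometryGroup F (⇑Q)) (x : ι → F) : (toBI Q g).1 x = mat Q g *ᵥ x := rfl

/-- The description of an involution by a frame and a matrix. -/
def IsOD (g : Cfsg.isometryGroup F (⇑Q)) {s : ℕ} (f : Fin s → (ι → F)) (S : Matrix (Fin s) (Fin s) F) : Prop :=
  IsoFrames.IsFrame BQ f ∧ Sᵀ = S ∧ IsUnit S ∧ ∀ x, mat Q g *ᵥ x = x + nil BQ f S x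

/-- The alternating type. -/
def IsAltO (g : Cfsg.isometryGroup F (⇑Q)) : Prop := ∀ v, QuadraticMap.polar (⇑Q) v (mat Q g *ᵥ v) = 0

/-- The compatibility of a matrix with the values of the form on a frame. -/
def Cond {s : ℕ} (u : Fin s → F) (S : Matrix (Fin s) (Fin s) F) : Prop := ∀ j, ∑ i, u i * (S i j * S i j) = S j j

variable {Q}

theorem sum_sq {κ : Type*} (t : Finset κ) (a : κ → F) : (∑ i ∈ t, a i) * (∑ i ∈ t, a i) = ∑ i ∈ t, a i * a i := by
  simpa only [frobenius_def, sq] using map_sum (frobenius F 2) a t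

theorem Cond.unique {s : ℕ} {u u' : Fin s → F} {S : Matrix (Fin s) (Fin s) F} (hu : IsUnit S) (h : Cond u S)
    (h' : Cond u' S) : u = u' := by
  have h2 : IsUnit ((frobenius F 2).mapMatrix S) := hu.map _
  refine Matrix.vecMul_injective_iff_isUnit.2 h2 (funext fun j => ?_)
  have e : ∀ w : Fin s → F, (w ᵥ* (frobenius F 2).mapMatrix S) j = ∑ i, w i * (S i j * S i j) := fun w => by
    simp [Matrix.vecMul, dotProduct, frobenius_def, sq]
  show (u ᵥ* (frobenius F 2).mapMatrix S) j = (u' ᵥ* (frobenius F 2).mapMatrix S) j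
  rw [e, e, h, h']

theorem qsum {s : ℕ} {f : Fin s → (ι → F)} (hf : IsoFrames.IsFrame BQ f) (c : Fin s → F) :
    Q (∑ i, c i • f i) = ∑ i, Q (f i) * (c i * c i) := by
  classical
  induction (Finset.univ : Finset (Fin s)) using Finset.induction with
  | empty => simp
  | insert a t ha ih =>
    rw [Finset.sum_insert ha, Finset.sum_insert ha, QuadraticMap.map_add (⇑Q), ih, QuadraticMap.map_smul,
      ← QuadraticMap.polarBilin_apply_apply, map_sum]
    have h0 : ∀ i ∈ t, BQ (c a • f a) (c i • f i) = 0 := fun i _ => by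
      rw [map_smul, map_smul, LinearMap.smul_apply, hf.2, smul_zero, smul_zero]
    rw [Finset.sum_eq_zero h0, add_zero, smul_eq_mul, mul_comm (c a * c a)]

theorem qnil {s : ℕ} {f : Fin s → (ι → F)} (hf : IsoFrames.IsFrame BQ f) {S : Matrix (Fin s) (Fin s) F} (hS : Sᵀ = S)
    (x : ι → F) : Q (x + nil BQ f S x) = Q x + ∑ j, (BQ (f j) x * BQ (f j) x) * (∑ i, Q (f i) * (S i j * S i j)) +
      ∑ j, (BQ (f j) x * BQ (f j) x) * S j j := by
  rw [QuadraticMap.map_add (⇑Q), ← QuadraticMap.polarBilin_apply_apply, form_self (polar_alt Q) f hS x]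
  congr 2
  · rw [nil_apply, qsum hf]
    simp only [sum_sq]
    simp only [Finset.mul_sum]
    rw [Finset.sum_comm]
    exact Finset.sum_congr rfl fun j _ => Finset.sum_congr rfl fun i _ => by ring
  · exact funext fun j => mul_comm (S j j) _

theorem cond_of_od (hQ : (BQ).Nondegenerate) {g : Cfsg.isometryGroup F (⇑Q)} {s : ℕ} {f : Fin s → (ι → F)}
    {S : Matrix (Fin s) (Fin s) F} (h : IsOD Q g f S) : Cond (fun i => Q (f i)) S := by
  intro j
  obtain ⟨x, hx⟩ := exists_dual hQ h.1.1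
  have h1 := qnil h.1 h.2.1 (x j)
  rw [← h.2.2.2, (mem_iff Q).mp g.2, add_assoc, left_eq_add] at h1
  simp only [hx, ite_mul, one_mul, zero_mul, mul_ite, mul_one, mul_zero, Finset.sum_ite_eq', Finset.mem_univ, if_true] at h1
  exact CharTwo.add_eq_zero.1 h1

theorem exists_data (hQ : (BQ).Nondegenerate) (g : Cfsg.isometryGroup F (⇑Q)) (hg : g ^ 2 = 1) {s : ℕ}
    (hs : (mat Q g - 1).rank = s) : ∃ (f : Fin s → (ι → F)) (S : Matrix (Fin s) (Fin s) F), IsOD Q g f S := by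
  have h1 : Module.finrank F (LinearMap.range
      (((toBI Q g).1 : (ι → F) →ₗ[F] (ι → F)) - LinearMap.id)) = s := by
    rw [← hs, Matrix.rank]
    refine congrArg (fun L : (ι → F) →ₗ[F] (ι → F) => Module.finrank F (LinearMap.range L)) (LinearMap.ext fun x => ?_)
    rw [Matrix.mulVecLin_apply, Matrix.sub_mulVec, Matrix.one_mulVec]
    rfl
  subst h1
  obtain ⟨f, S, h2, h3, h4, h5⟩ := exists_frame (polar_alt Q) hQ (toBI Q g) (by rw [← map_pow, hg, map_one])
  exact ⟨f, S, h2, h3, h4, fun x => h5 x⟩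

theorem rank_eq (hQ : (BQ).Nondegenerate) {g : Cfsg.isometryGroup F (⇑Q)} {s : ℕ} {f : Fin s → (ι → F)}
    {S : Matrix (Fin s) (Fin s) F} (h : IsOD Q g f S) : (mat Q g - 1).rank = s := by
  have e : (mat Q g - 1).mulVecLin = nil BQ f S := LinearMap.ext fun x => by
    rw [Matrix.mulVecLin_apply, Matrix.sub_mulVec, Matrix.one_mulVec, h.2.2.2, add_sub_cancel_left]
  rw [Matrix.rank, e, range_nil hQ h.1.1 h.2.2.1, finrank_span_eq_card h.1.1, Fintype.card_fin]

theorem alt_iff (hQ : (BQ).Nondegenerate) {g : Cfsg.isometryGroup F (⇑Q)} {s : ℕ} {f : Fin s → (ι → F)}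
    {S : Matrix (Fin s) (Fin s) F} (h : IsOD Q g f S) : IsAltO Q g ↔ ∀ i, S i i = 0 := by
  have key : ∀ v, QuadraticMap.polar (⇑Q) v (mat Q g *ᵥ v) = ∑ i, S i i * (BQ (f i) v * BQ (f i) v) := fun v => by
    rw [← QuadraticMap.polarBilin_apply_apply, h.2.2.2, map_add, polar_alt Q v, zero_add,
      form_self (polar_alt Q) f h.2.1]
  refine ⟨fun ha i => ?_, fun hd v => by rw [key]; exact Finset.sum_eq_zero fun i _ => by rw [hd, zero_mul]⟩
  obtain ⟨x, hx⟩ := exists_dual hQ h.1.1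
  have := (key (x i)).symm.trans (ha (x i))
  simpa [hx] using this

theorem alt_even (hQ : (BQ).Nondegenerate) {g : Cfsg.isometryGroup F (⇑Q)} {s : ℕ} {f : Fin s → (ι → F)}
    {S : Matrix (Fin s) (Fin s) F} (h : IsOD Q g f S) (ha : IsAltO Q g) : Even s := by
  have := even_finrank_of_symplectic ((isAlt_iff S h.2.1).2 ((alt_iff hQ h).1 ha)) (toBilin_nondeg h.2.2.1)
  rwa [Module.finrank_fin_fun] at this

theorem le_half (hQ : (BQ).Nondegenerate) {m : ℕ} (hι : Fintype.card ι = 2 * m) {s : ℕ} {f : Fin s → (ι → F)}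
    (hf : IsoFrames.IsFrame BQ f) : s ≤ m := by
  have := card_frames_pos (polar_alt Q) hQ s hf
  rw [Module.finrank_fintype_fun_eq_card, hι] at this
  omega

theorem alt_iff_singular (g : Cfsg.isometryGroup F (⇑Q)) : IsAltO Q g ↔ ∀ v, Q ((mat Q g - 1) *ᵥ v) = 0 := by
  refine forall_congr' fun v => ?_
  have h := QuadraticMap.map_add (⇑Q) v ((mat Q g - 1) *ᵥ v)
  rw [Matrix.sub_mulVec, Matrix.one_mulVec, add_sub_cancel, (mem_iff Q).mp g.2, add_assoc, left_eq_add,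
    QuadraticMap.polar_sub_right, show QuadraticMap.polar (⇑Q) v v = 0 from polar_alt Q v, sub_zero] at h
  rw [Matrix.sub_mulVec, Matrix.one_mulVec, CharTwo.add_eq_zero.1 h]

theorem change_frame {s : ℕ} {f : Fin s → (ι → F)} (hf : IsoFrames.IsFrame BQ f)
    {A : Matrix (Fin s) (Fin s) F} (hA : IsUnit A) : IsoFrames.IsFrame BQ (fun i => ∑ k, A k i • f k) := by
  refine ⟨?_, fun i j => ?_⟩
  swap
  · show BQ (∑ k, A k i • f k) (∑ k, A k j • f k) = 0
    have : ∀ k l, BQ (f k) (f l) = 0 := hf.2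
    simp only [map_sum, map_smul, LinearMap.sum_apply, LinearMap.smul_apply, this, smul_zero, Finset.sum_const_zero]
  rw [Fintype.linearIndependent_iff]
  intro c hc i
  have h1 : ∑ k, (A *ᵥ c) k • f k = 0 := by
    rw [← hc]
    simp only [Matrix.mulVec, dotProduct, Finset.sum_smul, Finset.smul_sum, smul_smul]
    rw [Finset.sum_comm]
    exact Finset.sum_congr rfl fun a _ => Finset.sum_congr rfl fun b _ => by rw [mul_comm]
  have h2 : A *ᵥ c = A *ᵥ 0 := by
    rw [mulVec_zero]; exact funext fun k => Fintype.linearIndependent_iff.1 hf.1 _ h1 k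
  exact congrFun (Matrix.mulVec_injective_iff_isUnit.2 hA h2) i

theorem data_change {g : Cfsg.isometryGroup F (⇑Q)} {s : ℕ} {f : Fin s → (ι → F)} {S A : Matrix (Fin s) (Fin s) F}
    (hA : IsUnit A) (hS : Sᵀ = S) (hu : IsUnit S) (h : IsOD Q g f (A * S * Aᵀ)) :
    IsOD Q g (fun i => ∑ k, A k i • f k) S :=
  ⟨change_frame h.1 hA, hS, hu, fun x => by rw [h.2.2.2, nil_change]⟩

/-- Witt's lemma for frames. -/
theorem exists_move (hQ : (BQ).Nondegenerate) {s : ℕ} {f f' : Fin s → (ι → F)} (hf : IsoFrames.IsFrame BQ f)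
    (hf' : IsoFrames.IsFrame BQ f') (hq : ∀ i, Q (f i) = Q (f' i)) :
    ∃ h : Cfsg.isometryGroup F (⇑Q), ∀ i, mat Q h *ᵥ f i = f' i := by
  let φ := (Module.Basis.span hf.1).equiv (Module.Basis.span hf'.1) (Equiv.refl _)
  have hφ : ∀ i, φ ⟨f i, subset_span ⟨i, rfl⟩⟩ = ⟨f' i, subset_span ⟨i, rfl⟩⟩ := fun i => by
    have e : ∀ {e : Fin s → (ι → F)} (he : LinearIndependent F e),
        Module.Basis.span he i = ⟨e i, subset_span ⟨i, rfl⟩⟩ := fun he => Subtype.ext (by rw [Module.Basis.span_apply])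
    rw [← e hf.1, ← e hf'.1, Module.Basis.equiv_apply, Equiv.refl_apply]
  obtain ⟨L, hL, hLf⟩ := WittQuad.witt Q hQ _ _ φ fun x => by
    obtain ⟨x, hx⟩ := x
    obtain ⟨c, rfl⟩ := (mem_span_range_iff_exists_fun F).1 hx
    have : φ ⟨∑ i, c i • f i, hx⟩ = ∑ i, c i • (⟨f' i, subset_span ⟨i, rfl⟩⟩ : span F (Set.range f')) := by
      rw [show (⟨∑ i, c i • f i, hx⟩ : span F (Set.range f)) = ∑ i, c i • ⟨f i, subset_span ⟨i, rfl⟩⟩ from
        Subtype.ext (by simp), map_sum]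
      simp only [map_smul, hφ]
    rw [this]
    simp only [Submodule.coe_sum, Submodule.coe_smul, qsum hf, qsum hf', hq]
  obtain ⟨h, hh⟩ := exists_of_equiv Q L hL
  exact ⟨h, fun i => by rw [hh, hLf ⟨f i, subset_span ⟨i, rfl⟩⟩, hφ]⟩

theorem conj_of_same (hQ : (BQ).Nondegenerate) {g g' : Cfsg.isometryGroup F (⇑Q)} {s : ℕ}
    {f f' : Fin s → (ι → F)} {S : Matrix (Fin s) (Fin s) F} (h : IsOD Q g f S) (h' : IsOD Q g' f' S) :
    IsConj g g' := by
  obtain ⟨k, hk⟩ := exists_move hQ h.1 h'.1 (congrFun ((cond_of_od hQ h).unique h.2.2.1 (cond_of_od hQ h')))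
  refine isConj_iff.2 ⟨k, ?_⟩
  rw [mul_inv_eq_iff_eq_mul]
  refine ext_mulVec Q fun x => ?_
  show mat Q (k * g) *ᵥ x = mat Q (g' * k) *ᵥ x
  rw [mulVec_mul, mulVec_mul, h.2.2.2, h'.2.2.2, Matrix.mulVec_add]
  congr 1
  have hact : IsoFrames.act (toBI Q k) f = f' := funext hk
  rw [← hact]
  exact (nil_act f S (toBI Q k) x).symm

theorem rank_conj {g g' : Cfsg.isometryGroup F (⇑Q)} (h : IsConj g g') :
    (mat Q g - 1).rank = (mat Q g' - 1).rank := by
  obtain ⟨k, hk⟩ := isConj_iff.1 h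
  have e : mat Q k * (mat Q g - 1) = (mat Q g' - 1) * mat Q k := by
    have e1 : mat Q (k * g) = mat Q (g' * k) := congrArg (mat Q) (mul_inv_eq_iff_eq_mul.1 hk)
    rw [mul_sub, sub_mul, mul_one, one_mul]
    exact congrArg (fun M => M - mat Q k) (by simpa [mat] using e1)
  have hdet : IsUnit (mat Q k).det := (Matrix.isUnit_iff_isUnit_det _).1 (k.1).isUnit
  rw [← Matrix.rank_mul_eq_right_of_isUnit_det (mat Q k) (mat Q g - 1) hdet, e,
    Matrix.rank_mul_eq_left_of_isUnit_det _ _ hdet]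

theorem altO_conj {g g' : Cfsg.isometryGroup F (⇑Q)} (h : IsConj g g') (ha : IsAltO Q g) : IsAltO Q g' := by
  obtain ⟨k, rfl⟩ := isConj_iff.1 h
  intro v
  obtain ⟨w, rfl⟩ : ∃ w, mat Q k *ᵥ w = v := ⟨mat Q k⁻¹ *ᵥ v, by
    rw [← mulVec_mul, mul_inv_cancel]; exact Matrix.one_mulVec v⟩
  rw [← mulVec_mul, inv_mul_cancel_right, mulVec_mul]
  exact ((toBI Q k).2 w (mat Q g *ᵥ w)).trans (ha w)

theorem isConj_iff_invariants (hQ : (BQ).Nondegenerate) {g g' : Cfsg.isometryGroup F (⇑Q)} (hg : g ^ 2 = 1)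
    (hg' : g' ^ 2 = 1) :
    IsConj g g' ↔ (mat Q g - 1).rank = (mat Q g' - 1).rank ∧ (IsAltO Q g ↔ IsAltO Q g') := by
  refine ⟨fun h => ⟨rank_conj h, altO_conj h, altO_conj h.symm⟩, fun ⟨hr, hal⟩ => ?_⟩
  obtain ⟨f, S, hd⟩ := exists_data hQ g hg rfl
  obtain ⟨f', T, hd'⟩ := exists_data hQ g' hg' hr.symm
  rw [alt_iff hQ hd, alt_iff hQ hd'] at hal
  by_cases halt : ∀ i, S i i = 0
  · obtain ⟨U, hU, rfl⟩ := cong_alt hd.2.1 hd.2.2.1 halt hd'.2.1 hd'.2.2.1 (hal.1 halt)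
    exact conj_of_same hQ hd (data_change hU hd.2.1 hd.2.2.1 hd')
  · obtain ⟨i, hi⟩ := not_forall.1 halt
    obtain ⟨j, hj⟩ := not_forall.1 (fun h => halt (hal.2 h))
    obtain ⟨U, hU, e⟩ := cong_one hd.2.1 hd.2.2.1 ⟨i, hi⟩
    obtain ⟨W, hW, e'⟩ := cong_one hd'.2.1 hd'.2.2.1 ⟨j, hj⟩
    obtain ⟨W, rfl⟩ := hW
    have hT : T = ((W⁻¹ : (Matrix _ _ F)ˣ) : Matrix _ _ F) * U * S * (((W⁻¹ : (Matrix _ _ F)ˣ) : Matrix _ _ F) * U)ᵀ := by
      rw [transpose_mul, show ((W⁻¹ : (Matrix _ _ F)ˣ) : Matrix _ _ F) * U * S * (Uᵀ * ((W⁻¹ : (Matrix _ _ F)ˣ) : Matrix _ _ F)ᵀ) =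
        ((W⁻¹ : (Matrix _ _ F)ˣ) : Matrix _ _ F) * (U * S * Uᵀ) * ((W⁻¹ : (Matrix _ _ F)ˣ) : Matrix _ _ F)ᵀ by
          simp only [mul_assoc], e, ← e']
      simp only [mul_assoc, Units.inv_mul_cancel_left, ← transpose_mul, Units.inv_mul, transpose_one, mul_one]
    rw [hT] at hd'
    exact conj_of_same hQ hd (data_change ((W⁻¹).isUnit.mul hU) hd.2.1 hd.2.2.1 hd')

theorem order_two_iff (g : Cfsg.isometryGroup F (⇑Q)) : orderOf g = 2 ↔ g ^ 2 = 1 ∧ (mat Q g - 1).rank ≠ 0 := by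
  haveI : Fact (Nat.Prime 2) := ⟨Nat.prime_two⟩
  rw [orderOf_eq_prime_iff]
  refine and_congr_right fun _ => not_congr ⟨fun h => ?_, fun h => ?_⟩
  · rw [h, show mat Q (1 : Cfsg.isometryGroup F (⇑Q)) = 1 from rfl, sub_self, Matrix.rank_zero]
  · rw [Matrix.rank, Submodule.finrank_eq_zero, LinearMap.range_eq_bot] at h
    refine ext_mulVec Q fun x => sub_eq_zero.1 ?_
    show mat Q g *ᵥ x - (1 : Matrix ι ι F) *ᵥ x = 0
    rw [← Matrix.sub_mulVec, ← Matrix.mulVecLin_apply, h, LinearMap.zero_apply]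

end Cfsg.Lib.OrthInvol
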