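import Cfsg.Agent.Known.OrthInvol.Omega
import Mathlib

/-! Counting classes of involutions in orthogonal groups and their subgroups `Ω`, characteristic two. -/

set_option autoImplicit false
set_option linter.style.haveILetI false
set_option linter.unusedSectionVars false

open Matrix Submodule Cfsg.Lib.Classical Cfsg.Lib.Classical.Refl Cfsg.Lib.SympInvol

namespace Cfsg.Lib.OrthInvol

universe u

variable {F : Type u} [Field F] [Fintype F] [CharP F 2] {ι : Type} [Fintype ι] [DecidableEq ι]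
  {Q : QuadraticForm F (ι → F)}

local notation "BQ" => QuadraticMap.polarBilin Q

theorem exists_of_frame (hQ : (BQ).Nondegenerate) {s : ℕ} {f : Fin s → (ι → F)} (hf : IsoFrames.IsFrame BQ f)
    {S : Matrix (Fin s) (Fin s) F} (hS : Sᵀ = S) (hu : IsUnit S) (hc : Cond (fun i => Q (f i)) S) :
    ∃ g : Cfsg.isometryGroup F (⇑Q), g ^ 2 = 1 ∧ IsOD Q g f S := by
  obtain ⟨b, hb, hb2⟩ := exists_invol (polar_alt Q) hf hS
  obtain ⟨g, hg⟩ := exists_of_equiv Q b.1 fun x => by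
    rw [hb, qnil hf hS, add_assoc, ← Finset.sum_add_distrib, add_eq_left]
    refine Finset.sum_eq_zero fun j _ => ?_
    rw [hc j, CharTwo.add_self_eq_zero]
  refine ⟨g, ext_mulVec Q fun x => ?_, hf, hS, hu, fun x => by rw [hg]; exact hb x⟩
  show mat Q (g ^ 2) *ᵥ x = (1 : Matrix ι ι F) *ᵥ x
  rw [sq, mulVec_mul, hg, hg, ← BilinIsom.mul_apply', ← sq, hb2, Matrix.one_mulVec]
  rfl

/-- The alternating normal form. -/
def hypMat (r : ℕ) (F : Type u) [Field F] : Matrix (Fin (r + r)) (Fin (r + r)) F :=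
  Matrix.reindex finSumFinEquiv finSumFinEquiv (Matrix.fromBlocks 0 1 1 0)

theorem hypMat_spec (r : ℕ) : (hypMat r F)ᵀ = hypMat r F ∧ IsUnit (hypMat r F) ∧ ∀ i, hypMat r F i i = 0 := by
  refine ⟨?_, ?_, fun i => ?_⟩
  · simp only [hypMat, Matrix.transpose_reindex, Matrix.fromBlocks_transpose, transpose_zero, transpose_one]
  · refine IsUnit.of_mul_eq_one (hypMat r F) ?_
    simp only [hypMat, Matrix.reindex_apply, Matrix.submatrix_mul_equiv, Matrix.fromBlocks_multiply, mul_zero, zero_mul,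
      one_mul, zero_add, add_zero, Matrix.fromBlocks_one, Matrix.submatrix_one_equiv]
  · obtain ⟨x, rfl⟩ := finSumFinEquiv.surjective i
    simp only [hypMat, Matrix.reindex_apply, Matrix.submatrix_apply, Equiv.symm_apply_apply]
    cases x <;> rfl

/-- Witt index `a` and half dimension `m`, stated with frames. -/
structure Shape (Q : QuadraticForm F (ι → F)) (m a : ℕ) : Prop where
  nd : (QuadraticMap.polarBilin Q).Nondegenerate
  card_eq : Fintype.card ι = 2 * m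
  le : a ≤ m
  one : ∀ s ≤ m, ∃ f : Fin s → (ι → F), IsoFrames.IsFrame (QuadraticMap.polarBilin Q) f ∧ ∀ i, Q (f i) = 1
  zero : ∀ s ≤ a, ∃ f : Fin s → (ι → F), IsoFrames.IsFrame (QuadraticMap.polarBilin Q) f ∧ ∀ i, Q (f i) = 0
  bound : ∀ (s : ℕ) (f : Fin s → (ι → F)), IsoFrames.IsFrame (QuadraticMap.polarBilin Q) f → (∀ i, Q (f i) = 0) → s ≤ a

variable {m a : ℕ}

theorem Shape.exists_non (H : Shape Q m a) (s : ℕ) (h0 : 0 < s) (hs : s ≤ m) :
    ∃ g : Cfsg.isometryGroup F (⇑Q), g ^ 2 = 1 ∧ (mat Q g - 1).rank = s ∧ ¬ IsAltO Q g := by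
  obtain ⟨f, hf, h1⟩ := H.one s hs
  obtain ⟨g, hg, hd⟩ := exists_of_frame H.nd hf transpose_one isUnit_one fun j => by
    simp [h1, Matrix.one_apply]
  refine ⟨g, hg, rank_eq H.nd hd, fun h => ?_⟩
  have := (alt_iff H.nd hd).1 h ⟨0, h0⟩
  simp at this

theorem Shape.exists_alt (H : Shape Q m a) (r : ℕ) (hr : r + r ≤ a) :
    ∃ g : Cfsg.isometryGroup F (⇑Q), g ^ 2 = 1 ∧ (mat Q g - 1).rank = r + r ∧ IsAltO Q g := by
  obtain ⟨f, hf, h1⟩ := H.zero _ hr
  obtain ⟨g, hg, hd⟩ := exists_of_frame H.nd hf (hypMat_spec r).1 (hypMat_spec r).2.1 fun j => by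
    simp [h1, (hypMat_spec (F := F) r).2.2]
  exact ⟨g, hg, rank_eq H.nd hd, (alt_iff H.nd hd).2 (hypMat_spec r).2.2⟩

theorem Shape.rank_le (H : Shape Q m a) {g : Cfsg.isometryGroup F (⇑Q)} (hg : g ^ 2 = 1) :
    (mat Q g - 1).rank ≤ m := by
  obtain ⟨f, S, hd⟩ := exists_data H.nd g hg rfl
  exact le_half H.nd H.card_eq hd.1

theorem Shape.alt_rank (H : Shape Q m a) {g : Cfsg.isometryGroup F (⇑Q)} (hg : g ^ 2 = 1) (ha : IsAltO Q g) :
    Even (mat Q g - 1).rank ∧ (mat Q g - 1).rank ≤ a := by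
  obtain ⟨f, S, hd⟩ := exists_data H.nd g hg rfl
  refine ⟨alt_even H.nd hd ha, H.bound _ f hd.1 (congrFun ?_)⟩
  exact (cond_of_od H.nd hd).unique hd.2.2.1 (u' := 0) fun j => by simp [(alt_iff H.nd hd).1 ha j]

theorem Shape.card_classes (H : Shape Q m a) :
    Nat.card {C : ConjClasses ↥(Cfsg.isometryGroup F (⇑Q)) // ∃ g : Cfsg.isometryGroup F (⇑Q),
      ConjClasses.mk g = C ∧ orderOf g = 2} = m + a / 2 := by
  classical
  choose A₁ hA₁ hr₁ hn₁ using fun i : Fin m => H.exists_non ((i : ℕ) + 1) (by omega) i.isLt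
  choose A₂ hA₂ hr₂ ha₂ using fun r : Fin (a / 2) => H.exists_alt ((r : ℕ) + 1) (by have := r.isLt; omega)
  let A : Fin m ⊕ Fin (a / 2) → Cfsg.isometryGroup F (⇑Q) := Sum.elim A₁ A₂
  have hord : ∀ z, orderOf (A z) = 2 := fun z => by
    rcases z with i | r
    · exact (order_two_iff _).2 ⟨hA₁ i, by rw [show A (Sum.inl i) = A₁ i from rfl, hr₁ i]; omega⟩
    · exact (order_two_iff _).2 ⟨hA₂ r, by rw [show A (Sum.inr r) = A₂ r from rfl, hr₂ r]; omega⟩
  rw [← Nat.card_congr (Equiv.ofBijective (fun z => (⟨ConjClasses.mk (A z), A z, rfl, hord z⟩ :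
    {C : ConjClasses ↥(Cfsg.isometryGroup F (⇑Q)) // ∃ g, ConjClasses.mk g = C ∧ orderOf g = 2})) ⟨?_, ?_⟩)]
  · simp
  · intro z z' h
    have hc : IsConj (A z) (A z') := ConjClasses.mk_eq_mk_iff_isConj.1 (congrArg Subtype.val h)
    have hr := rank_conj hc
    rcases z with i | r <;> rcases z' with j | k
    · simp only [A, Sum.elim_inl, hr₁] at hr
      rw [show i = j from Fin.ext (by omega)]
    · exact absurd (altO_conj hc.symm (ha₂ k)) (hn₁ i)
    · exact absurd (altO_conj hc (ha₂ r)) (hn₁ j)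
    · simp only [A, Sum.elim_inr, hr₂] at hr
      rw [show r = k from Fin.ext (by omega)]
  · rintro ⟨C, g, rfl, hg⟩
    obtain ⟨hg2, hg0⟩ := (order_two_iff g).1 hg
    have hle := H.rank_le hg2
    by_cases ha : IsAltO Q g
    · obtain ⟨⟨r, hr⟩, hle'⟩ := H.alt_rank hg2 ha
      refine ⟨Sum.inr ⟨r - 1, by omega⟩, Subtype.ext (ConjClasses.mk_eq_mk_iff_isConj.2 ?_)⟩
      refine (isConj_iff_invariants H.nd (hA₂ _) hg2).2 ⟨?_, iff_of_true (ha₂ _) ha⟩
      rw [hr₂]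
      show r - 1 + 1 + (r - 1 + 1) = _
      omega
    · refine ⟨Sum.inl ⟨(mat Q g - 1).rank - 1, by omega⟩, Subtype.ext (ConjClasses.mk_eq_mk_iff_isConj.2 ?_)⟩
      refine (isConj_iff_invariants H.nd (hA₁ _) hg2).2 ⟨?_, iff_of_false (hn₁ _) ha⟩
      rw [hr₁]
      show (mat Q g - 1).rank - 1 + 1 = _
      omega

theorem isConj_sub_iff {G : Type*} [Group G] (K : Subgroup G) (x y : K) :
    IsConj x y ↔ ∃ h ∈ K, h * (x : G) * h⁻¹ = (y : G) := by
  rw [isConj_iff]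
  exact ⟨fun ⟨h, e⟩ => ⟨h.1, h.2, congrArg Subtype.val e⟩, fun ⟨h, hh, e⟩ => ⟨⟨h, hh⟩, Subtype.ext e⟩⟩

theorem Shape.exists_ne (H : Shape Q m a) (hm : 1 ≤ m) : ∃ v, Q v ≠ 0 := by
  obtain ⟨f, hf, h1⟩ := H.one 1 hm
  exact ⟨f 0, by rw [h1]; exact one_ne_zero⟩

theorem Shape.card_classes_omega (H : Shape Q m a) (hΩ : OmegaEven H.nd) (hm : 1 ≤ m) {e : ℕ}
    (he : e = if a = m ∧ Even m then 1 else 0)
    (hsplit : a = m → Fintype.card F ≠ 2 ∨ Fintype.card ι ≠ 4) :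
    Nat.card {C : ConjClasses ↥(Cfsg.Omega F (⇑Q)) // ∃ g : ↥(Cfsg.Omega F (⇑Q)),
      ConjClasses.mk g = C ∧ orderOf g = 2} = m / 2 + a / 2 + e := by
  classical
  have hle := H.le
  have he' : ∀ _ : Fin e, a = m ∧ Even m := fun z => by
    by_contra hcon
    rw [if_neg hcon] at he
    have := z.isLt
    omega
  have hin : ∀ {g : Cfsg.isometryGroup F (⇑Q)}, Even (mat Q g - 1).rank → g ∈ Cfsg.Omega F (⇑Q) :=
    fun {g} h => (mem_omega_iff_rank H.nd hΩ g).2 h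
  obtain ⟨v, hv⟩ := H.exists_ne hm
  set k := refl Q v hv with hk
  have hdk : dickson Q H.nd k = -1 := dickson_refl Q H.nd v hv
  -- conjugation by `Ω`
  have coset : ∀ (h : Cfsg.isometryGroup F (⇑Q)) {r : Cfsg.isometryGroup F (⇑Q)}, dickson Q H.nd r = -1 →
      h ∉ Cfsg.Omega F (⇑Q) → h * r ∈ Cfsg.Omega F (⇑Q) := fun h r hr hh => by
    refine (hΩ _).2 ?_
    rw [map_mul, hr, (Int.units_eq_one_or _).resolve_left fun h' => hh ((hΩ h).2 h')]
    rfl
  have adjust : ∀ {x y : Cfsg.isometryGroup F (⇑Q)}, x ^ 2 = 1 → IsConj x y →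
      ¬ ((mat Q x - 1).rank = m ∧ IsAltO Q x) → ∃ h ∈ Cfsg.Omega F (⇑Q), h * x * h⁻¹ = y := by
    intro x y hx hc hnot
    obtain ⟨h, rfl⟩ := isConj_iff.1 hc
    by_cases hh : h ∈ Cfsg.Omega F (⇑Q)
    · exact ⟨h, hh, rfl⟩
    · obtain ⟨r, hr, hrd⟩ := exists_centralizing_odd H.nd H.card_eq hx hnot
      refine ⟨h * r, coset h hrd hh, ?_⟩
      rw [_root_.mul_inv_rev, mul_assoc h r x, hr]
      simp only [mul_assoc, mul_inv_cancel_left]
  choose A₁ hA₁ hr₁ hn₁ using fun i : Fin (m / 2) => H.exists_non (((i : ℕ) + 1) + ((i : ℕ) + 1)) (by omega)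
    (by have := i.isLt; omega)
  choose A₂ hA₂ hr₂ ha₂ using fun r : Fin (a / 2) => H.exists_alt ((r : ℕ) + 1) (by have := r.isLt; omega)
  let top : Fin e → Fin (a / 2) := fun z => ⟨a / 2 - 1, by obtain ⟨h1, r, hr⟩ := he' z; omega⟩
  have htop : ∀ z, (mat Q (A₂ (top z)) - 1).rank = m := fun z => by
    rw [hr₂]; obtain ⟨h1, r, hr⟩ := he' z
    show a / 2 - 1 + 1 + (a / 2 - 1 + 1) = m
    omega
  -- the two halves of the split class
  have hne : ∀ z, ∀ h ∈ Cfsg.Omega F (⇑Q), h * A₂ (top z) * h⁻¹ ≠ k * A₂ (top z) * k⁻¹ := by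
    intro z h hh e1
    have e2 : (k⁻¹ * h) * A₂ (top z) = A₂ (top z) * (k⁻¹ * h) := by
      have e3 := mul_inv_eq_iff_eq_mul.1 e1
      rw [mul_assoc k⁻¹, e3]; group
    have := dickson_centralizing H.nd H.card_eq (hsplit (he' z).1) (htop z) (ha₂ _) e2
    rw [map_mul, map_inv, hdk, (hΩ h).1 hh, mul_one] at this
    exact absurd this (by decide)
  let A : (Fin (m / 2) ⊕ Fin (a / 2)) ⊕ Fin e → Cfsg.isometryGroup F (⇑Q) :=
    Sum.elim (Sum.elim A₁ A₂) (fun z => k * A₂ (top z) * k⁻¹)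
  have hc' : ∀ z, IsConj (A₂ (top z)) (A (Sum.inr z)) := fun z => isConj_iff.2 ⟨k, rfl⟩
  have hrA : ∀ z, (mat Q (A (Sum.inr z)) - 1).rank = m := fun z => by rw [← rank_conj (hc' z)]; exact htop z
  have hA : ∀ z, A z ^ 2 = 1 ∧ Even (mat Q (A z) - 1).rank ∧ (mat Q (A z) - 1).rank ≠ 0 := by
    rintro ((i | r) | z)
    · exact ⟨hA₁ i, by rw [show A _ = A₁ i from rfl, hr₁ i]; exact ⟨⟨_, rfl⟩, by omega⟩⟩
    · exact ⟨hA₂ r, by rw [show A _ = A₂ r from rfl, hr₂ r]; exact ⟨⟨_, rfl⟩, by omega⟩⟩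
    · refine ⟨?_, ?_⟩
      · show (k * A₂ (top z) * k⁻¹) ^ 2 = 1
        rw [conj_pow, hA₂, mul_one, mul_inv_cancel]
      · rw [hrA]; exact ⟨(he' z).2, by omega⟩
  have hmem : ∀ z, A z ∈ Cfsg.Omega F (⇑Q) := fun z => hin (hA z).2.1
  have hord : ∀ z, orderOf (⟨A z, hmem z⟩ : ↥(Cfsg.Omega F (⇑Q))) = 2 := fun z => by
    rw [← Subgroup.orderOf_coe]
    exact (order_two_iff _).2 ⟨(hA z).1, (hA z).2.2⟩
  rw [← Nat.card_congr (Equiv.ofBijective (fun z => (⟨ConjClasses.mk (⟨A z, hmem z⟩ : ↥(Cfsg.Omega F (⇑Q))),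
      ⟨A z, hmem z⟩, rfl, hord z⟩ :
    {C : ConjClasses ↥(Cfsg.Omega F (⇑Q)) // ∃ g, ConjClasses.mk g = C ∧ orderOf g = 2})) ⟨?_, ?_⟩)]
  · simp
  · intro z z' h
    obtain ⟨g, hg, hz⟩ : ∃ g ∈ Cfsg.Omega F (⇑Q), g * A z * g⁻¹ = A z' :=
      (isConj_sub_iff _ _ _).1 (ConjClasses.mk_eq_mk_iff_isConj.1 (congrArg Subtype.val h))
    have hc : IsConj (A z) (A z') := isConj_iff.2 ⟨g, hz⟩
    have hr := rank_conj hc
    have hai : ∀ z, IsAltO Q (A (Sum.inr z)) := fun z => altO_conj (hc' z) (ha₂ _)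
    rcases z with (i | r) | w <;> rcases z' with (j | r') | w'
    · simp only [A, Sum.elim_inl, hr₁] at hr
      rw [show i = j from Fin.ext (by omega)]
    · exact absurd (altO_conj hc.symm (ha₂ r')) (hn₁ i)
    · exact absurd (altO_conj hc.symm (hai w')) (hn₁ i)
    · exact absurd (altO_conj hc (ha₂ r)) (hn₁ j)
    · simp only [A, Sum.elim_inl, Sum.elim_inr, hr₂] at hr
      rw [show r = r' from Fin.ext (by omega)]
    · rw [hrA, show A (Sum.inl (Sum.inr r)) = A₂ r from rfl, hr₂] at hr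
      have e : r = top w' := Fin.ext (by
        obtain ⟨h1, -⟩ := he' w'
        show (r : ℕ) = a / 2 - 1
        omega)
      subst e
      exact absurd hz (hne w' g hg)
    · exact absurd (altO_conj hc (hai w)) (hn₁ j)
    · rw [hrA, show A (Sum.inl (Sum.inr r')) = A₂ r' from rfl, hr₂] at hr
      have e : r' = top w := Fin.ext (by
        obtain ⟨h1, -⟩ := he' w
        show (r' : ℕ) = a / 2 - 1
        omega)
      subst e
      refine absurd ?_ (hne w g⁻¹ (inv_mem hg))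
      have hz' : g * (k * A₂ (top w) * k⁻¹) * g⁻¹ = A₂ (top w) := hz
      conv_lhs => rw [← hz']
      group
    · rw [show w = w' from Fin.ext (by
        have := w.isLt; have := w'.isLt
        obtain ⟨h1, h2⟩ := he' w
        rw [if_pos ⟨h1, h2⟩] at he
        omega)]
  · rintro ⟨C, ⟨g, hgm⟩, rfl, hg⟩
    rw [← Subgroup.orderOf_coe] at hg
    obtain ⟨hg2, hg0⟩ := (order_two_iff g).1 hg
    obtain ⟨r, hr⟩ := (mem_omega_iff_rank H.nd hΩ g).1 hgm
    have hlem := H.rank_le hg2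
    suffices ∃ z, ∃ h ∈ Cfsg.Omega F (⇑Q), h * A z * h⁻¹ = g by
      obtain ⟨z, hz⟩ := this
      exact ⟨z, Subtype.ext (ConjClasses.mk_eq_mk_iff_isConj.2 ((isConj_sub_iff _ _ _).2 hz))⟩
    by_cases ha : IsAltO Q g
    · obtain ⟨-, hle'⟩ := H.alt_rank hg2 ha
      let z : Fin (a / 2) := ⟨r - 1, by omega⟩
      have hc : IsConj (A₂ z) g := (isConj_iff_invariants H.nd (hA₂ z) hg2).2 ⟨by
        rw [hr₂]; show r - 1 + 1 + (r - 1 + 1) = _
        omega, iff_of_true (ha₂ z) ha⟩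
      by_cases hm2 : (mat Q g - 1).rank = m
      · obtain ⟨h, hh⟩ := isConj_iff.1 hc
        by_cases hho : h ∈ Cfsg.Omega F (⇑Q)
        · exact ⟨Sum.inl (Sum.inr z), h, hho, hh⟩
        · have ham : a = m := by omega
          have he1 : e = 1 := by rw [he, if_pos ⟨ham, r, by omega⟩]
          have htz : top ⟨0, by omega⟩ = z := Fin.ext (by show a / 2 - 1 = r - 1; omega)
          refine ⟨Sum.inr ⟨0, by omega⟩, h * k⁻¹, coset h (by rw [map_inv, hdk]; rfl) hho, ?_⟩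
          show h * k⁻¹ * (k * A₂ (top ⟨0, by omega⟩) * k⁻¹) * (h * k⁻¹)⁻¹ = g
          rw [htz, ← hh]; group
      · exact ⟨Sum.inl (Sum.inr z), adjust (hA₂ z) hc fun h => hm2 ((rank_conj hc).symm.trans h.1)⟩
    · let z : Fin (m / 2) := ⟨r - 1, by omega⟩
      have hc : IsConj (A₁ z) g := (isConj_iff_invariants H.nd (hA₁ z) hg2).2 ⟨by
        rw [hr₁]; show r - 1 + 1 + (r - 1 + 1) = _
        omega, iff_of_false (hn₁ z) ha⟩
      exact ⟨Sum.inl (Sum.inl z), adjust (hA₁ z) hc fun h => hn₁ z h.2⟩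

end Cfsg.Lib.OrthInvol
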