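import Cfsg.Agent.Known.OrthInvol.Models
import Cfsg.Agent.Classical.Orth.Orders
import Mathlib

/-! Orders of centralisers of involutions in orthogonal groups of plus type, characteristic two. -/

set_option autoImplicit false
set_option linter.style.haveILetI false
set_option linter.unusedSectionVars false

open Matrix Submodule Cfsg.Lib.Classical Cfsg.Lib.Classical.Refl Cfsg.Lib.SympInvol

namespace Cfsg.Lib.OrthInvol

universe u

variable {F : Type u} [Field F] [Fintype F] [CharP F 2] {ι : Type} [Fintype ι] [DecidableEq ι]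
  {Q : QuadraticForm F (ι → F)}

local notation "BQ" => QuadraticMap.polarBilin Q

/-- Frames with prescribed values. -/
def NF (Q : QuadraticForm F (ι → F)) {k : ℕ} (u : Fin k → F) (f : Fin k → (ι → F)) : Prop :=
  IsoFrames.IsFrame (QuadraticMap.polarBilin Q) f ∧ ∀ i, Q (f i) = u i

theorem card_orbit_frames (hQ : (BQ).Nondegenerate) {k : ℕ} {u : Fin k → F} {f₀ : Fin k → (ι → F)} (hf₀ : NF Q u f₀)
    (Φ : (Fin k → (ι → F)) → Prop) :
    Nat.card {g : Cfsg.isometryGroup F (⇑Q) // Φ (fun i => mat Q g *ᵥ f₀ i)} =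
      Nat.card {f : Fin k → (ι → F) // NF Q u f ∧ Φ f} *
        Nat.card {g : Cfsg.isometryGroup F (⇑Q) // ∀ i, mat Q g *ᵥ f₀ i = f₀ i} := by
  rw [← Nat.card_prod]
  choose s hs using fun f : {f : Fin k → (ι → F) // NF Q u f ∧ Φ f} =>
    exists_move hQ hf₀.1 f.2.1.1 (fun i => (hf₀.2 i).trans (f.2.1.2 i).symm)
  refine (Nat.card_eq_of_bijective
    (fun x : {f : Fin k → (ι → F) // NF Q u f ∧ Φ f} × {g : Cfsg.isometryGroup F (⇑Q) // ∀ i, mat Q g *ᵥ f₀ i = f₀ i} =>
      (⟨s x.1 * x.2.1, by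
        have : (fun i => mat Q (s x.1 * x.2.1) *ᵥ f₀ i) = x.1.1 := funext fun i => by
          rw [mulVec_mul, x.2.2, hs]
        rw [this]; exact x.1.2.2⟩ : {g : Cfsg.isometryGroup F (⇑Q) // Φ (fun i => mat Q g *ᵥ f₀ i)})) ⟨?_, ?_⟩).symm
  · rintro ⟨f, a⟩ ⟨f', a'⟩ e
    have e' : s f * a.1 = s f' * a'.1 := congrArg Subtype.val e
    have hff : f = f' := Subtype.ext (funext fun i => by
      rw [← hs f i, ← hs f' i]
      conv_lhs => rw [← a.2 i, ← mulVec_mul, e', mulVec_mul, a'.2 i])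
    subst hff
    exact Prod.ext rfl (Subtype.ext (mul_left_cancel e'))
  · rintro ⟨g, hg⟩
    let f : {f : Fin k → (ι → F) // NF Q u f ∧ Φ f} := ⟨fun i => mat Q g *ᵥ f₀ i,
      ⟨IsoFrames.act_frame (toBI Q g) hf₀.1, fun i => ((mem_iff Q).mp g.2 _).trans (hf₀.2 i)⟩, hg⟩
    refine ⟨⟨f, ⟨(s f)⁻¹ * g, fun i => ?_⟩⟩, Subtype.ext (mul_inv_cancel_left _ _)⟩
    rw [mulVec_mul, show mat Q g *ᵥ f₀ i = mat Q (s f) *ᵥ f₀ i from (hs f i).symm, ← mulVec_mul, inv_mul_cancel]
    exact Matrix.one_mulVec _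

theorem card_centralizer (hQ : (BQ).Nondegenerate) {g : Cfsg.isometryGroup F (⇑Q)} {s : ℕ}
    {f : Fin s → (ι → F)} {S : Matrix (Fin s) (Fin s) F} (h : IsOD Q g f S) {u : Fin s → F}
    (hu : ∀ i, Q (f i) = u i) :
    Nat.card ↥(Subgroup.centralizer ({g} : Set (Cfsg.isometryGroup F (⇑Q)))) *
        Nat.card {f' : Fin s → (ι → F) // NF Q u f'} =
      Nat.card ↥(Cfsg.isometryGroup F (⇑Q)) * isoCount S := by
  have hf₀ : NF Q u f := ⟨h.1, hu⟩
  have hall := card_orbit_frames hQ hf₀ (fun _ => True)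
  simp only [and_true] at hall
  rw [Nat.card_congr (Equiv.subtypeUnivEquiv fun _ => trivial)] at hall
  have hC := card_orbit_frames hQ hf₀ (fun f' => nil BQ f' S = nil BQ f S)
  have hc : ∀ k : Cfsg.isometryGroup F (⇑Q), k ∈ Subgroup.centralizer ({g} : Set (Cfsg.isometryGroup F (⇑Q))) ↔
      nil BQ (fun i => mat Q k *ᵥ f i) S = nil BQ f S := by
    intro k
    rw [Subgroup.mem_centralizer_singleton_iff]
    constructor
    · intro hk
      refine LinearMap.ext fun y => ?_
      obtain ⟨x, rfl⟩ := (toBI Q k).1.surjective y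
      show nil BQ (IsoFrames.act (toBI Q k) f) S ((toBI Q k).1 x) = _
      rw [nil_act, toBI_apply, toBI_apply]
      have := congrArg (fun t => mat Q t *ᵥ x) hk
      simp only [mulVec_mul, h.2.2.2, Matrix.mulVec_add] at this
      exact add_left_cancel this
    · intro hk
      refine ext_mulVec Q fun x => ?_
      show mat Q (k * g) *ᵥ x = mat Q (g * k) *ᵥ x
      rw [mulVec_mul, mulVec_mul, h.2.2.2, h.2.2.2, Matrix.mulVec_add]
      congr 1
      refine ((nil_act f S (toBI Q k) x).symm).trans ?_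
      exact congrArg (fun L : (ι → F) →ₗ[F] (ι → F) => L (mat Q k *ᵥ x)) hk
  rw [Nat.card_congr (Equiv.subtypeEquivRight hc), hC, hall]
  have e : Nat.card {A : Matrix (Fin s) (Fin s) F // A * S * Aᵀ = S} =
      Nat.card {f' : Fin s → (ι → F) // NF Q u f' ∧ nil BQ f' S = nil BQ f S} := by
    have hS := h.2.2.1
    refine Nat.card_congr (Equiv.ofBijective (fun A : {A : Matrix (Fin s) (Fin s) F // A * S * Aᵀ = S} =>
      ⟨fun i => ∑ k, A.1 k i • f k, ?_, by rw [nil_change, A.2]⟩) ⟨fun A A' hAA => ?_, fun z => ?_⟩)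
    · have hAu : IsUnit A.1 := by
        rw [Matrix.isUnit_iff_isUnit_det]
        refine isUnit_iff_ne_zero.2 fun h0 => ((Matrix.isUnit_iff_isUnit_det S).1 hS).ne_zero ?_
        rw [← A.2, det_mul, det_mul, h0, zero_mul, zero_mul]
      have hd : IsOD Q g (fun i => ∑ k, A.1 k i • f k) S :=
        data_change hAu h.2.1 hS (by rw [A.2]; exact h)
      refine ⟨hd.1, fun i => ?_⟩
      rw [← hu i]
      exact congrFun ((cond_of_od hQ hd).unique hS (cond_of_od hQ h)) i
    · refine Subtype.ext (Matrix.ext fun k i => sub_eq_zero.1 (Fintype.linearIndependent_iff.1 h.1.1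
        (fun k => A.1 k i - A'.1 k i) ?_ k))
      have := congrFun (congrArg Subtype.val hAA) i
      simp only at this
      simp only [sub_smul, Finset.sum_sub_distrib, this, sub_self]
    · obtain ⟨f', hf', hN⟩ := z
      have hsp : span F (Set.range f') = span F (Set.range f) := by
        rw [← range_nil hQ hf'.1.1 hS, ← range_nil hQ h.1.1 hS, hN]
      have hmem : ∀ i, ∃ c : Fin s → F, ∑ k, c k • f k = f' i := fun i =>
        (mem_span_range_iff_exists_fun F).1 (hsp ▸ subset_span ⟨i, rfl⟩)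
      choose c hcf using hmem
      have hf'e : (fun i => ∑ k, (Matrix.of fun k i => c i k) k i • f k) = f' := funext hcf
      refine ⟨⟨Matrix.of fun k i => c i k, nil_injective hQ h.1.1 ?_⟩, Subtype.ext hf'e⟩
      rw [← nil_change, hf'e, hN]
  rw [show isoCount S = Nat.card {A : Matrix (Fin s) (Fin s) F // A * S * Aᵀ = S} from rfl, e]
  ring

/-! ### Numbers of frames in the standard plus space -/

/-- The number of singular vectors of the plus space. -/
def zCard (q j : ℕ) : ℕ := if j = 0 then 1 else q ^ (2 * j - 1) + q ^ j - q ^ (j - 1)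

theorem card_zero (j : ℕ) :
    Nat.card {z : Fin j ⊕ Fin j → F // Cfsg.quadFormPlus j F z = 0} = zCard (Fintype.card F) j := by
  rcases Nat.eq_zero_or_pos j with rfl | hj
  · rw [zCard, if_pos rfl, Nat.card_eq_one_iff_unique]
    exact ⟨⟨fun a b => Subtype.ext (Subsingleton.elim _ _)⟩, ⟨⟨0, by simp [Cfsg.quadFormPlus]⟩⟩⟩
  · rw [zCard, if_neg (by omega), OrthCard.count_plus j hj, Nat.card_eq_fintype_card]

theorem zCard_succ (q j : ℕ) (hq : 1 ≤ q) : zCard q (j + 1) = (q ^ (j + 1) - 1) * (q ^ j + 1) + 1 := by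
  rw [zCard, if_neg (by omega), show 2 * (j + 1) - 1 = (j + 1) + j by omega, Nat.add_sub_cancel, pow_add]
  obtain ⟨x, hx⟩ : ∃ x, q ^ (j + 1) = x + 1 := ⟨_, (Nat.sub_add_cancel (Nat.one_le_pow _ _ hq)).symm⟩
  rw [hx, Nat.add_sub_cancel]
  refine Nat.sub_eq_of_eq_add ?_
  ring

theorem card_one' (j : ℕ) :
    Nat.card {z : Fin (j + 1) ⊕ Fin (j + 1) → F // Cfsg.quadFormPlus (j + 1) F z = 1} =
      Fintype.card F ^ j * (Fintype.card F ^ (j + 1) - 1) := by
  classical
  set V := Fin (j + 1) ⊕ Fin (j + 1) → F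
  have hs : ∀ (d : F) (z : V), Cfsg.quadFormPlus (j + 1) F (d • z) = d * d * Cfsg.quadFormPlus (j + 1) F z := fun d z => by
    rw [← HypQuad.plusForm_apply, ← HypQuad.plusForm_apply, QuadraticMap.map_smul, smul_eq_mul]
  have e : Nat.card ({d : F // d ≠ 0} × {z : V // Cfsg.quadFormPlus (j + 1) F z = 1}) =
      Nat.card {z : V // ¬ Cfsg.quadFormPlus (j + 1) F z = 0} := by
    refine Nat.card_eq_of_bijective (fun x => ⟨x.1.1 • x.2.1, by
      rw [hs, x.2.2, mul_one]; exact mul_ne_zero x.1.2 x.1.2⟩) ⟨fun x y h => ?_, fun z => ?_⟩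
    · have h1 : x.1.1 • x.2.1 = y.1.1 • y.2.1 := congrArg Subtype.val h
      have h2 : x.1.1 = y.1.1 := sq_inj (by
        have := congrArg (Cfsg.quadFormPlus (j + 1) F) h1
        rwa [hs, hs, x.2.2, y.2.2, mul_one, mul_one] at this)
      rw [h2] at h1
      exact Prod.ext (Subtype.ext h2) (Subtype.ext (smul_right_injective _ y.1.2 h1))
    · obtain ⟨d, hd⟩ := sqrt_exists (Cfsg.quadFormPlus (j + 1) F z.1)
      have hd0 : d ≠ 0 := fun h => z.2 (by rw [← hd, h, mul_zero])
      refine ⟨⟨⟨d, hd0⟩, ⟨d⁻¹ • z.1, by rw [hs, ← hd]; field_simp⟩⟩, Subtype.ext ?_⟩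
      show d • d⁻¹ • z.1 = z.1
      rw [smul_smul, mul_inv_cancel₀ hd0, one_smul]
  have htot : Nat.card {z : V // Cfsg.quadFormPlus (j + 1) F z = 0} +
      Nat.card {z : V // ¬ Cfsg.quadFormPlus (j + 1) F z = 0} = (Fintype.card F) ^ (2 * (j + 1)) := by
    rw [← Nat.card_sum, Nat.card_congr (Equiv.sumCompl _), Nat.card_fun, Nat.card_sum, Nat.card_fin,
      Nat.card_eq_fintype_card, two_mul]
  rw [← e, card_zero, zCard_succ _ _ Fintype.card_pos, Nat.card_prod,
    Nat.card_eq_fintype_card (α := {d : F // d ≠ 0}), Fintype.card_subtype_compl, Fintype.card_subtype_eq] at htot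
  obtain ⟨p, hp⟩ : ∃ p, (Fintype.card F) = p + 1 := ⟨(Fintype.card F) - 1, by have := Fintype.card_pos (α := F); omega⟩
  obtain ⟨x, hx⟩ : ∃ x, (Fintype.card F) ^ (j + 1) = x + 1 := ⟨_, (Nat.sub_add_cancel (Nat.one_le_pow _ _ Fintype.card_pos)).symm⟩
  have hp0 : 0 < p := by have := Fintype.one_lt_card (α := F); omega
  rw [hx, Nat.add_sub_cancel]
  rw [show 2 * (j + 1) = (j + 1) + (j + 1) by ring, pow_add (Fintype.card F) (j + 1) (j + 1), hx, Nat.add_sub_cancel,
    show Fintype.card F - 1 = p by omega] at htot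
  refine Nat.eq_of_mul_eq_mul_left hp0 ?_
  have h2 : (Fintype.card F) ^ j * (Fintype.card F) = x + 1 := by rw [← pow_succ, hx]
  generalize Nat.card {z : V // Cfsg.quadFormPlus (j + 1) F z = 1} = N at htot ⊢
  rw [hp] at h2 htot ⊢
  generalize (p + 1) ^ j = Y at h2 htot ⊢
  have h3 : Y * (p + 1) * x = (x + 1) * x := by rw [h2]
  nlinarith [htot, h3]

theorem card_perp_value {m : ℕ} {k j : ℕ} (hm : k + j = m) {f : Fin k → (Fin m ⊕ Fin m → F)}
    (hf : NF (HypQuad.plusForm m F) (fun _ => 0) f) (c : F) :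
    Nat.card {v : Fin m ⊕ Fin m → F // v ∈ LinearMap.BilinForm.orthogonal
        (QuadraticMap.polarBilin (HypQuad.plusForm m F)) (span F (Set.range f)) ∧ HypQuad.plusForm m F v = c} =
      Fintype.card F ^ k * Nat.card {z : Fin j ⊕ Fin j → F // Cfsg.quadFormPlus j F z = c} := by
  classical
  subst hm
  let f₀ : Fin k → (Fin (k + j) ⊕ Fin (k + j) → F) := fun i => Pi.single (Sum.inl (Fin.castAdd j i)) 1
  have hf₀ : IsoFrames.IsFrame (QuadraticMap.polarBilin (HypQuad.plusForm (k + j) F)) f₀ ∧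
      ∀ i, HypQuad.plusForm (k + j) F (f₀ i) = 0 := by
    refine ⟨⟨(Pi.linearIndependent_single_one _ F).comp _ (Sum.inl_injective.comp (Fin.castAdd_injective k j)),
      fun a b => ?_⟩, fun i => ?_⟩
    · show QuadraticMap.polar (⇑(HypQuad.plusForm (k + j) F)) (f₀ a) (f₀ b) = 0
      rw [plus_coe]; simp [QuadraticMap.polar, Cfsg.quadFormPlus, f₀]
    · rw [plus_coe]; simp [Cfsg.quadFormPlus, f₀]
  obtain ⟨g, hg⟩ := exists_move (HypQuad.plusForm_nondegenerate (k + j)) hf₀.1 hf.1
    (fun i => (hf₀.2 i).trans (hf.2 i).symm)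
  have hmem : ∀ (e : Fin k → (Fin (k + j) ⊕ Fin (k + j) → F)) v, v ∈ LinearMap.BilinForm.orthogonal
      (QuadraticMap.polarBilin (HypQuad.plusForm (k + j) F)) (span F (Set.range e)) ↔
      ∀ i, QuadraticMap.polar (⇑(HypQuad.plusForm (k + j) F)) (e i) v = 0 := fun e v => by
    refine ⟨fun h i => h _ (subset_span ⟨i, rfl⟩), fun h => ?_⟩
    intro x hx
    have hle : span F (Set.range e) ≤ LinearMap.ker ((QuadraticMap.polarBilin (HypQuad.plusForm (k + j) F)).flip v) :=
      span_le.mpr (by rintro _ ⟨i, rfl⟩; exact h i)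
    exact hle hx
  have hco : ∀ v i, QuadraticMap.polar (⇑(HypQuad.plusForm (k + j) F)) (f₀ i) v = v (Sum.inr (Fin.castAdd j i)) := by
    intro v i
    rw [plus_coe]
    simp [QuadraticMap.polar, Cfsg.quadFormPlus, f₀, Pi.single_apply, add_mul, Finset.sum_add_distrib]
  calc _ = Nat.card {v : Fin (k + j) ⊕ Fin (k + j) → F // (∀ i : Fin k, v (Sum.inr (Fin.castAdd j i)) = 0) ∧
          Cfsg.quadFormPlus (k + j) F v = c} := by
        symm
        refine Nat.card_congr ((toBI (HypQuad.plusForm (k + j) F) g).1.toEquiv.subtypeEquiv fun v => ?_)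
        rw [hmem]
        refine and_congr (forall_congr' fun i => ?_) ?_
        · rw [← hco v i, ← hg i]
          exact (Iff.of_eq (congrArg (· = (0 : F)) ((toBI _ g).2 (f₀ i) v))).symm
        · show _ ↔ HypQuad.plusForm (k + j) F (mat _ g *ᵥ v) = c
          rw [(mem_iff _).mp g.2, plus_coe]
    _ = _ := by
        rw [show Fintype.card F ^ k = Nat.card (Fin k → F) by rw [Nat.card_eq_fintype_card, Fintype.card_fun, Fintype.card_fin],
          ← Nat.card_prod]
        have hsum : ∀ v : Fin (k + j) ⊕ Fin (k + j) → F, (∀ i : Fin k, v (Sum.inr (Fin.castAdd j i)) = 0) →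
            Cfsg.quadFormPlus (k + j) F v = Cfsg.quadFormPlus j F
              (Sum.elim (fun i => v (Sum.inl (Fin.natAdd k i))) (fun i => v (Sum.inr (Fin.natAdd k i)))) := fun v hv => by
          simp [Cfsg.quadFormPlus, Fin.sum_univ_add, hv]
        refine Nat.card_congr
          { toFun := fun v => (fun i => v.1 (Sum.inl (Fin.castAdd j i)),
              ⟨Sum.elim (fun i => v.1 (Sum.inl (Fin.natAdd k i))) (fun i => v.1 (Sum.inr (Fin.natAdd k i))),
                by rw [← hsum _ v.2.1]; exact v.2.2⟩)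
            invFun := fun p => ⟨Sum.elim (Fin.append p.1 fun i => p.2.1 (Sum.inl i))
                (Fin.append (0 : Fin k → F) fun i => p.2.1 (Sum.inr i)),
              fun i => by simp, by
                rw [hsum _ fun i => by simp]
                refine Eq.trans (congrArg _ (funext fun z => ?_)) p.2.2
                rcases z with z | z <;> simp⟩
            left_inv := fun v => Subtype.ext (funext fun z => by
              rcases z with z | z <;> refine Fin.addCases (fun i => ?_) (fun i => ?_) z <;> simp [v.2.1])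
            right_inv := fun p => by
              refine Prod.ext (funext fun i => by simp) (Subtype.ext (funext fun z => ?_))
              rcases z with z | z <;> simp }

/-- The number of totally singular frames. -/
noncomputable def n0 (F : Type u) [Field F] (m k : ℕ) : ℕ :=
  Nat.card {f : Fin k → (Fin m ⊕ Fin m → F) // NF (HypQuad.plusForm m F) (fun _ => 0) f}

theorem nf_span {k : ℕ} {f : Fin k → (ι → F)} (hf : NF Q (fun _ => 0) f) {v : ι → F}
    (hv : v ∈ span F (Set.range f)) : Q v = 0 ∧ v ∈ LinearMap.BilinForm.orthogonal BQ (span F (Set.range f)) := by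
  refine ⟨?_, fun x hx => IsoFrames.frame_span hf.1 hx hv⟩
  obtain ⟨c, rfl⟩ := (mem_span_range_iff_exists_fun F).1 hv
  rw [qsum hf.1]; simp [hf.2]

theorem nf_succ {k : ℕ} (c : F) (g : Fin (k + 1) → (ι → F)) :
    NF Q (Fin.snoc (fun _ => 0) c) g ↔ NF Q (fun _ => 0) (Fin.init g) ∧
      (g (Fin.last k) ∈ LinearMap.BilinForm.orthogonal BQ (span F (Set.range (Fin.init g))) ∧
        g (Fin.last k) ∉ span F (Set.range (Fin.init g)) ∧ Q (g (Fin.last k)) = c) := by
  rw [NF, NF, IsoFrames.frame_succ (polar_alt Q), Fin.forall_fin_succ']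
  simp only [Fin.snoc_castSucc, Fin.snoc_last]
  exact ⟨fun ⟨⟨a, b, d⟩, e, f⟩ => ⟨⟨a, e⟩, b, d, f⟩, fun ⟨⟨a, e⟩, b, d, f⟩ => ⟨⟨a, b, d⟩, e, f⟩⟩

theorem n0_zero (m : ℕ) : n0 F m 0 = 1 := by
  rw [n0, Nat.card_eq_one_iff_unique]
  exact ⟨⟨fun a b => Subtype.ext (funext fun i => i.elim0)⟩,
    ⟨⟨Fin.elim0, ⟨linearIndependent_empty_type, fun i => i.elim0⟩, fun i => i.elim0⟩⟩⟩

theorem n0_succ {m k j : ℕ} (hm : k + (j + 1) = m) :
    n0 F m (k + 1) = n0 F m k * (Fintype.card F ^ k * (zCard (Fintype.card F) (j + 1) - 1)) := by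
  classical
  rw [n0, n0]
  have hu : (fun _ : Fin (k + 1) => (0 : F)) = Fin.snoc (fun _ => 0) 0 := funext fun i => by
    refine Fin.lastCases ?_ (fun i => ?_) i <;> simp
  rw [hu, Nat.card_congr (Equiv.subtypeEquivRight (nf_succ 0))]
  refine IsoFrames.card_step (NF (HypQuad.plusForm m F) (fun _ => 0))
    (fun f v => v ∈ LinearMap.BilinForm.orthogonal (QuadraticMap.polarBilin (HypQuad.plusForm m F)) (span F (Set.range f)) ∧
      v ∉ span F (Set.range f) ∧ HypQuad.plusForm m F v = 0) _ fun f hf => ?_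
  set A : Set (Fin m ⊕ Fin m → F) := {v | v ∈ LinearMap.BilinForm.orthogonal
    (QuadraticMap.polarBilin (HypQuad.plusForm m F)) (span F (Set.range f)) ∧ HypQuad.plusForm m F v = 0}
  have h1 : Nat.card A = Fintype.card F ^ k * zCard (Fintype.card F) (j + 1) := by
    rw [← card_zero]; exact card_perp_value hm hf 0
  have h2 : Nat.card (span F (Set.range f)) = Fintype.card F ^ k := by
    rw [Module.natCard_eq_pow_finrank (K := F), finrank_span_eq_card hf.1.1, Fintype.card_fin, Nat.card_eq_fintype_card]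
  have hsub : (span F (Set.range f) : Set (Fin m ⊕ Fin m → F)) ⊆ A := fun v hv =>
    ⟨(nf_span hf hv).2, (nf_span hf hv).1⟩
  rw [Nat.mul_sub, mul_one, ← h1, ← h2]
  show _ = A.ncard - (span F (Set.range f) : Set (Fin m ⊕ Fin m → F)).ncard
  rw [← Set.ncard_sdiff hsub (Set.toFinite _)]
  exact Nat.card_congr (Equiv.subtypeEquivRight fun v => ⟨fun h => ⟨⟨h.1, h.2.2⟩, h.2.1⟩, fun h => ⟨h.1.1, h.2, h.1.2⟩⟩)

theorem card_ones {m k j : ℕ} (hm : k + (j + 1) = m) :
    Nat.card {f : Fin (k + 1) → (Fin m ⊕ Fin m → F) // NF (HypQuad.plusForm m F) (fun _ => 1) f} =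
      n0 F m k * (Fintype.card F ^ k * (Fintype.card F ^ j * (Fintype.card F ^ (j + 1) - 1))) := by
  classical
  set Q := HypQuad.plusForm m F
  let T : (Fin (k + 1) → (Fin m ⊕ Fin m → F)) → (Fin (k + 1) → (Fin m ⊕ Fin m → F)) := fun f =>
    fun i => if i = Fin.last k then f i else f i + f (Fin.last k)
  have hTT : ∀ f, T (T f) = f := fun f => funext fun i => by
    by_cases h : i = Fin.last k
    · simp [T, h]
    · simp only [T, if_neg h, if_pos]
      funext z
      simp [add_assoc, CharTwo.add_self_eq_zero]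
  have hT : ∀ f, IsoFrames.IsFrame (QuadraticMap.polarBilin Q) f → IsoFrames.IsFrame (QuadraticMap.polarBilin Q) (T f) ∧
      ∀ i, Q (T f i) = if i = Fin.last k then Q (f i) else Q (f i) + Q (f (Fin.last k)) := fun f hf => by
    have hp : ∀ a b, QuadraticMap.polar (⇑Q) (f a) (f b) = 0 := hf.2
    refine ⟨⟨?_, fun a b => ?_⟩, fun i => ?_⟩
    · let A : Matrix (Fin (k + 1)) (Fin (k + 1)) F := Matrix.of fun a i =>
        (if a = i then 1 else 0) + (if a = Fin.last k ∧ i ≠ Fin.last k then 1 else 0)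
      have e : T f = fun i => ∑ a, A a i • f a := funext fun i => by
        by_cases h : i = Fin.last k
        · simp [T, A, h, add_smul, Finset.sum_add_distrib, ite_smul]
        · simp [T, A, h, add_smul, Finset.sum_add_distrib, ite_smul]
      rw [e]
      refine (change_frame hf (IsUnit.of_mul_eq_one A (Matrix.ext fun a i => ?_))).1
      simp only [Matrix.mul_apply, A, Matrix.of_apply, Matrix.one_apply]
      by_cases ha : a = Fin.last k <;> by_cases hi : i = Fin.last k <;>
        simp [ha, hi, add_mul, mul_add, Finset.sum_add_distrib, CharTwo.add_self_eq_zero, eq_comm]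
    · show QuadraticMap.polar (⇑Q) (T f a) (T f b) = 0
      simp only [T]
      split_ifs <;> simp [QuadraticMap.polar_add_left, QuadraticMap.polar_add_right, hp]
    · simp only [T]
      split_ifs with h
      · rfl
      · rw [QuadraticMap.map_add (⇑Q), hp, add_zero]
  have e : Nat.card {f // NF Q (fun _ : Fin (k + 1) => (1 : F)) f} =
      Nat.card {g // NF Q (Fin.snoc (fun _ : Fin k => (0 : F)) 1) g} := by
    refine Nat.card_congr
      { toFun := fun f => ⟨T f.1, (hT _ f.2.1).1, fun i => by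
          rw [(hT _ f.2.1).2]
          refine Fin.lastCases ?_ (fun i => ?_) i
          · simp [f.2.2]
          · simp [f.2.2, CharTwo.add_self_eq_zero]⟩
        invFun := fun g => ⟨T g.1, (hT _ g.2.1).1, fun i => by
          rw [(hT _ g.2.1).2]
          refine Fin.lastCases ?_ (fun i => ?_) i
          · simp [g.2.2]
          · simp [g.2.2]⟩
        left_inv := fun f => Subtype.ext (hTT _)
        right_inv := fun g => Subtype.ext (hTT _) }
  rw [e, Nat.card_congr (Equiv.subtypeEquivRight (nf_succ 1)), n0]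
  refine IsoFrames.card_step (NF Q (fun _ => 0))
    (fun f v => v ∈ LinearMap.BilinForm.orthogonal (QuadraticMap.polarBilin Q) (span F (Set.range f)) ∧
      v ∉ span F (Set.range f) ∧ Q v = 1) _ fun f hf => ?_
  rw [← card_one' (F := F) j, ← card_perp_value hm hf 1]
  exact Nat.card_congr (Equiv.subtypeEquivRight fun v => ⟨fun h => ⟨h.1, h.2.2⟩,
    fun h => ⟨h.1, fun hv => one_ne_zero (h.2.symm.trans (nf_span hf hv).1), h.2⟩⟩)

/-- The order of the orthogonal group of plus type. -/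
def oCard (q : ℕ) : ℕ → ℕ
  | 0 => 1
  | j + 1 => 2 * q ^ ((j + 1) * j) * (q ^ (j + 1) - 1) * OrthCard.prodQ q j

theorem oCard_succ (q j : ℕ) (hq : 1 ≤ q) : oCard q (j + 1) = (zCard q (j + 1) - 1) * q ^ (2 * j) * oCard q j := by
  rw [zCard_succ q j hq, Nat.add_sub_cancel]
  cases j with
  | zero => simp [oCard, OrthCard.prodQ]; ring
  | succ j =>
    rw [oCard, oCard, OrthCard.prodQ_succ, ← OrthCard.sq_pow_sub_one q (j + 1)]
    ring

theorem oCard_split (m : ℕ) : ∀ k j, k + j = m →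
    oCard (Fintype.card F) m = n0 F m k * Fintype.card F ^ (2 * k * j + k * (k - 1) / 2) * oCard (Fintype.card F) j := by
  intro k
  induction k with
  | zero => intro j hj; rw [n0_zero]; simp at hj; simp [hj]
  | succ k ih =>
    intro j hj
    have h := ih (j + 1) (by omega)
    have hexp : 2 * k * (j + 1) + k * (k - 1) / 2 + 2 * j = k + (2 * (k + 1) * j + (k + 1) * (k + 1 - 1) / 2) := by
      cases k with
      | zero => simp
      | succ k =>
        rw [Nat.add_sub_cancel, Nat.add_sub_cancel, show (k + 1 + 1) * (k + 1) = (k + 1) * k + (k + 1) * 2 by ring,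
          Nat.add_mul_div_right _ _ two_pos]
        ring
    rw [h, oCard_succ _ _ Fintype.card_pos, n0_succ (F := F) (show k + (j + 1) = m by omega)]
    generalize zCard (Fintype.card F) (j + 1) - 1 = Z
    generalize n0 F m k = N
    rw [show N * Fintype.card F ^ (2 * k * (j + 1) + k * (k - 1) / 2) * (Z * Fintype.card F ^ (2 * j) * oCard (Fintype.card F) j) =
      N * Z * oCard (Fintype.card F) j * Fintype.card F ^ (2 * k * (j + 1) + k * (k - 1) / 2 + 2 * j) by rw [pow_add _ _ (2 * j)]; ring,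
      hexp, pow_add]
    ring

theorem card_group (m : ℕ) (hm : 1 ≤ m) :
    Nat.card ↥(Cfsg.isometryGroup F (⇑(HypQuad.plusForm m F))) = oCard (Fintype.card F) m := by
  obtain ⟨j, rfl⟩ : ∃ j, m = j + 1 := ⟨m - 1, by omega⟩
  rw [plus_coe, OrthCard.card_plus, oCard, Nat.card_eq_fintype_card]

theorem card_centralizer_alt {m j r : ℕ} {g : Cfsg.isometryGroup F (⇑(HypQuad.plusForm m F))} (hg : g ^ 2 = 1)
    (hm : 2 * r + j = m) (hm1 : 1 ≤ m) (hs : (mat (HypQuad.plusForm m F) g - 1).rank = 2 * r)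
    (ha : IsAltO (HypQuad.plusForm m F) g) :
    Nat.card ↥(Subgroup.centralizer ({g} : Set (Cfsg.isometryGroup F (⇑(HypQuad.plusForm m F))))) =
      Fintype.card F ^ (2 * (2 * r) * j + 2 * r * (2 * r - 1) / 2) * oCard (Fintype.card F) j *
        spCard (Fintype.card F) r := by
  have hQ := HypQuad.plusForm_nondegenerate (F := F) m
  obtain ⟨f, S, hd⟩ := exists_data hQ g hg hs
  have hd0 := (alt_iff hQ hd).1 ha
  have hu : ∀ i, HypQuad.plusForm m F (f i) = (fun _ : Fin (2 * r) => (0 : F)) i :=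
    congrFun ((cond_of_od hQ hd).unique hd.2.2.1 (u' := fun _ => 0) fun j => by simp [hd0 j])
  have h := card_centralizer hQ hd hu
  rw [card_group m hm1, oCard_split (F := F) m (2 * r) j hm, isoCount_alt hd.2.1 hd.2.2.1 hd0 rfl,
    Nat.card_eq_fintype_card (α := F)] at h
  have hpos : 0 < n0 F m (2 * r) := by
    haveI : Nonempty {f : Fin (2 * r) → (Fin m ⊕ Fin m → F) // NF (HypQuad.plusForm m F) (fun _ => 0) f} :=
      ⟨⟨f, hd.1, hu⟩⟩
    exact Nat.card_pos
  refine Nat.eq_of_mul_eq_mul_right hpos (h.trans ?_)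
  ring

theorem card_centralizer_non {m j k : ℕ} {g : Cfsg.isometryGroup F (⇑(HypQuad.plusForm m F))} (hg : g ^ 2 = 1)
    (hm : k + (j + 1) = m) (hs : (mat (HypQuad.plusForm m F) g - 1).rank = k + 1)
    (ha : ¬ IsAltO (HypQuad.plusForm m F) g) :
    Nat.card ↥(Subgroup.centralizer ({g} : Set (Cfsg.isometryGroup F (⇑(HypQuad.plusForm m F))))) =
      2 * (Fintype.card F ^ (2 * k * j + (k + 1) * k / 2) * spCard (Fintype.card F) j *
        oneCard (Fintype.card F) (k + 1)) := by
  have hQ := HypQuad.plusForm_nondegenerate (F := F) m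
  obtain ⟨f, S, hd⟩ := exists_data hQ g hg hs
  obtain ⟨i, hi⟩ := not_forall.1 ((alt_iff hQ hd).not.1 ha)
  obtain ⟨U, hU, e⟩ := cong_one hd.2.1 hd.2.2.1 ⟨i, hi⟩
  obtain ⟨U, rfl⟩ := hU
  have hd' : IsOD (HypQuad.plusForm m F) g (fun a => ∑ b, ((U⁻¹ : (Matrix (Fin (k + 1)) (Fin (k + 1)) F)ˣ) : Matrix (Fin (k + 1)) (Fin (k + 1)) F) b a • f b) 1 := by
    refine data_change (U⁻¹).isUnit transpose_one isUnit_one ?_
    have e' : ((U⁻¹ : (Matrix (Fin (k + 1)) (Fin (k + 1)) F)ˣ) : Matrix (Fin (k + 1)) (Fin (k + 1)) F) * 1 *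
        ((U⁻¹ : (Matrix (Fin (k + 1)) (Fin (k + 1)) F)ˣ) : Matrix (Fin (k + 1)) (Fin (k + 1)) F)ᵀ = S := by
      rw [← e]
      simp only [mul_assoc, Units.inv_mul_cancel_left, ← transpose_mul, Units.inv_mul, transpose_one, mul_one]
    rw [e']
    exact hd
  have hu := congrFun ((cond_of_od hQ hd').unique isUnit_one (u' := fun _ => 1) fun j => by simp [Matrix.one_apply])
  have h := card_centralizer hQ hd' hu
  rw [card_group m (by omega), card_ones hm, isoCount_nonalt transpose_one isUnit_one ⟨i, by simp⟩,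
    Nat.card_eq_fintype_card (α := F), oCard_split (F := F) m k (j + 1) hm] at h
  set c := Nat.card ↥(Subgroup.centralizer ({g} : Set (Cfsg.isometryGroup F (⇑(HypQuad.plusForm m F)))))
  have hq : 1 < Fintype.card F := Fintype.one_lt_card
  have hp : 0 < Fintype.card F ^ (j + 1) - 1 := by
    have : Fintype.card F ^ 1 ≤ Fintype.card F ^ (j + 1) := Nat.pow_le_pow_right (by omega) (by omega)
    rw [pow_one] at this
    omega
  have hpos : 0 < n0 F m k * (Fintype.card F ^ k * (Fintype.card F ^ j * (Fintype.card F ^ (j + 1) - 1))) := by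
    rw [← card_ones hm]
    haveI : Nonempty {f : Fin (k + 1) → (Fin m ⊕ Fin m → F) // NF (HypQuad.plusForm m F) (fun _ => 1) f} :=
      ⟨⟨_, hd'.1, hu⟩⟩
    exact Nat.card_pos
  refine Nat.eq_of_mul_eq_mul_right hpos (h.trans ?_)
  have hexp : 2 * k * (j + 1) + k * (k - 1) / 2 + (j + 1) * j =
      (2 * k * j + (k + 1) * k / 2) + j ^ 2 + (k + j) := by
    cases k with
    | zero => simp; ring
    | succ k =>
      rw [Nat.add_sub_cancel, show (k + 1 + 1) * (k + 1) = (k + 1) * k + (k + 1) * 2 by ring,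
        Nat.add_mul_div_right _ _ two_pos]
      ring
  rw [oCard, spCard, show OrthCard.prodQ (Fintype.card F) j = ∏ i ∈ Finset.range j, (Fintype.card F ^ (2 * (i + 1)) - 1) from rfl]
  generalize (Fintype.card F ^ (j + 1) - 1) = P
  generalize (∏ i ∈ Finset.range j, (Fintype.card F ^ (2 * (i + 1)) - 1)) = R
  generalize n0 F m k = N
  generalize oneCard (Fintype.card F) (k + 1) = O
  calc N * Fintype.card F ^ (2 * k * (j + 1) + k * (k - 1) / 2) * (2 * Fintype.card F ^ ((j + 1) * j) * P * R) * O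
      = 2 * N * P * R * O * Fintype.card F ^ (2 * k * (j + 1) + k * (k - 1) / 2 + (j + 1) * j) := by rw [pow_add _ _ ((j + 1) * j)]; ring
    _ = _ := by rw [hexp, pow_add, pow_add, pow_add]; ring

end Cfsg.Lib.OrthInvol
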