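import Cfsg.Agent.Known.OrthInvol.Classes
import Cfsg.Agent.Known.FormIndex
import Cfsg.Agent.Known.MinusExtend
import Cfsg.Agent.Classical.Orth.LowRankMinusFour
import Cfsg.Agent.Classical.Misc.SmallPSL
import Mathlib

/-! The standard forms of plus and minus type: frames and the Dickson invariant. -/

set_option autoImplicit false
set_option linter.style.haveILetI false
set_option linter.unusedSectionVars false

open Matrix Submodule Cfsg.Lib.Classical Cfsg.Lib.Classical.Refl

namespace Cfsg.Lib.OrthInvol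

universe u

variable {F : Type u} [Field F] [Fintype F] [CharP F 2]

theorem plus_coe (m : ℕ) : ⇑(HypQuad.plusForm m F) = Cfsg.quadFormPlus m F :=
  funext fun x => HypQuad.plusForm_apply m x

theorem plus_frame (m s : ℕ) (hs : s ≤ m) (c : F) :
    ∃ f : Fin s → (Fin m ⊕ Fin m → F),
      IsoFrames.IsFrame (QuadraticMap.polarBilin (HypQuad.plusForm m F)) f ∧ ∀ i, HypQuad.plusForm m F (f i) = c := by
  classical
  let f : Fin s → (Fin m ⊕ Fin m → F) := fun i =>
    Sum.elim (Pi.single (Fin.castLE hs i) 1) (Pi.single (Fin.castLE hs i) c)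
  refine ⟨f, ⟨?_, fun i j => ?_⟩, fun i => ?_⟩
  · refine LinearIndependent.of_comp (LinearMap.funLeft F F (Sum.inl : Fin m → Fin m ⊕ Fin m)) ?_
    have e : (LinearMap.funLeft F F (Sum.inl : Fin m → Fin m ⊕ Fin m)) ∘ f =
        fun i => (Pi.single (Fin.castLE hs i) 1 : Fin m → F) := funext fun i => funext fun j => rfl
    rw [e]
    exact (Pi.linearIndependent_single_one (Fin m) F).comp _ (Fin.castLE_injective hs)
  · show QuadraticMap.polar (⇑(HypQuad.plusForm m F)) (f i) (f j) = 0
    rw [plus_coe]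
    simp only [QuadraticMap.polar, Cfsg.quadFormPlus, Pi.add_apply, f, Sum.elim_inl, Sum.elim_inr, add_mul, mul_add,
      Finset.sum_add_distrib]
    rcases eq_or_ne i j with rfl | h
    · simp [Pi.single_apply, CharTwo.add_self_eq_zero, CharTwo.sub_eq_add, CharTwo.neg_eq]
    · have h' : Fin.castLE hs i ≠ Fin.castLE hs j := fun e => h (Fin.castLE_injective hs e)
      simp [Pi.single_apply, h', h'.symm]
  · rw [HypQuad.plusForm_apply]
    simp [Cfsg.quadFormPlus, f, Pi.single_apply]

theorem shape_plus (m : ℕ) : Shape (HypQuad.plusForm m F) m m where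
  nd := HypQuad.plusForm_nondegenerate m
  card_eq := by simp [two_mul]
  le := le_rfl
  one s hs := plus_frame m s hs 1
  zero s hs := plus_frame m s hs 0
  bound s f hf _ := le_half (HypQuad.plusForm_nondegenerate m) (by simp [two_mul]) hf

theorem minus_frame_zero (k s : ℕ) (hs : s ≤ k) (a b : F) :
    ∃ f : Fin s → ((Fin k ⊕ Fin k) ⊕ Fin 2 → F),
      IsoFrames.IsFrame (QuadraticMap.polarBilin (minusForm k F a b)) f ∧ ∀ i, minusForm k F a b (f i) = 0 := by
  classical
  let f : Fin s → ((Fin k ⊕ Fin k) ⊕ Fin 2 → F) := fun i => Sum.elim (Sum.elim (Pi.single (Fin.castLE hs i) 1) 0) 0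
  refine ⟨f, ⟨?_, fun i j => ?_⟩, fun i => ?_⟩
  · refine LinearIndependent.of_comp (LinearMap.funLeft F F (Sum.inl ∘ Sum.inl : Fin k → (Fin k ⊕ Fin k) ⊕ Fin 2)) ?_
    have e : (LinearMap.funLeft F F (Sum.inl ∘ Sum.inl : Fin k → (Fin k ⊕ Fin k) ⊕ Fin 2)) ∘ f =
        fun i => (Pi.single (Fin.castLE hs i) 1 : Fin k → F) := funext fun i => funext fun j => rfl
    rw [e]
    exact (Pi.linearIndependent_single_one (Fin k) F).comp _ (Fin.castLE_injective hs)
  · show QuadraticMap.polar (⇑(minusForm k F a b)) (f i) (f j) = 0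
    rw [minusForm_coe]
    simp [QuadraticMap.polar, Cfsg.quadFormMinus, f]
  · rw [minusForm_coe]; simp [Cfsg.quadFormMinus, f]

theorem minus_frame_one (k s : ℕ) (hs : s ≤ k + 1) (a b : F) :
    ∃ f : Fin s → ((Fin k ⊕ Fin k) ⊕ Fin 2 → F),
      IsoFrames.IsFrame (QuadraticMap.polarBilin (minusForm k F a b)) f ∧ ∀ i, minusForm k F a b (f i) = 1 := by
  classical
  let w : Fin (k + 1) → ((Fin k ⊕ Fin k) ⊕ Fin 2 → F) :=
    Fin.lastCases (Pi.single (Sum.inr 0) 1) fun i => Sum.elim (Sum.elim (Pi.single i 1) (Pi.single i 1)) 0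
  let p : Fin k ⊕ Unit → (Fin k ⊕ Fin k) ⊕ Fin 2 := Sum.elim (Sum.inl ∘ Sum.inl) fun _ => Sum.inr 0
  refine ⟨w ∘ Fin.castLE hs, ⟨?_, fun i j => ?_⟩, fun i => ?_⟩
  · refine LinearIndependent.comp ?_ _ (Fin.castLE_injective hs)
    refine LinearIndependent.of_comp (LinearMap.funLeft F F p) ?_
    let e : Fin (k + 1) → Fin k ⊕ Unit := Fin.lastCases (Sum.inr ()) Sum.inl
    have he : Function.Injective e :=
      Function.LeftInverse.injective (g := Sum.elim Fin.castSucc fun _ => Fin.last k) fun i => by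
        refine Fin.lastCases ?_ (fun i => ?_) i <;> simp [e]
    have h2 : (LinearMap.funLeft F F p) ∘ w = fun i => (Pi.single (e i) 1 : Fin k ⊕ Unit → F) := by
      funext i z
      refine Fin.lastCases ?_ (fun i' => ?_) i
      · rcases z with z | z <;> simp [w, p, e, LinearMap.funLeft_apply, Pi.single_apply]
      · rcases z with z | z <;> simp [w, p, e, LinearMap.funLeft_apply, Pi.single_apply]
    rw [h2]
    exact (Pi.linearIndependent_single_one (Fin k ⊕ Unit) F).comp _ he
  · show QuadraticMap.polar (⇑(minusForm k F a b)) (w (Fin.castLE hs i)) (w (Fin.castLE hs j)) = 0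
    rw [minusForm_coe]
    generalize Fin.castLE hs i = i'
    generalize Fin.castLE hs j = j'
    refine Fin.lastCases ?_ (fun i => ?_) i' <;> refine Fin.lastCases ?_ (fun j => ?_) j'
    · simp [QuadraticMap.polar, Cfsg.quadFormMinus, w, CharTwo.add_self_eq_zero, CharTwo.sub_eq_add, CharTwo.neg_eq]
    · simp [QuadraticMap.polar, Cfsg.quadFormMinus, w, Pi.single_apply]
    · simp [QuadraticMap.polar, Cfsg.quadFormMinus, w, Pi.single_apply]
    · simp only [QuadraticMap.polar, Cfsg.quadFormMinus, w, Fin.lastCases_castSucc, Pi.add_apply, Sum.elim_inl,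
        Sum.elim_inr, Pi.zero_apply, add_mul, mul_add, Finset.sum_add_distrib, add_zero, mul_zero, zero_mul]
      rcases eq_or_ne i j with rfl | h
      · simp [Pi.single_apply, CharTwo.add_self_eq_zero, CharTwo.sub_eq_add, CharTwo.neg_eq]
      · simp [Pi.single_apply, h, h.symm]
  · rw [minusForm_coe]
    show Cfsg.quadFormMinus k F a b (w (Fin.castLE hs i)) = 1
    generalize Fin.castLE hs i = i'
    refine Fin.lastCases ?_ (fun i => ?_) i'
    · simp [Cfsg.quadFormMinus, w]
    · simp [Cfsg.quadFormMinus, w, Pi.single_apply]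

theorem shape_minus (k : ℕ) {a b : F} (hab : ∀ z₁ z₂ : F, z₁ ^ 2 + a * z₁ * z₂ + b * z₂ ^ 2 = 0 → z₁ = 0 ∧ z₂ = 0) :
    Shape (minusForm k F a b) (k + 1) k where
  nd := minusForm_nondegenerate' k hab
  card_eq := by simp; ring
  le := Nat.le_succ k
  one s hs := minus_frame_one k s hs a b
  zero s hs := minus_frame_zero k s hs a b
  bound s f hf h0 := by
    have hQ := minusForm_nondegenerate' k hab
    have hs := le_half hQ (m := k + 1) (by simp; ring) hf
    by_contra hcon
    have hW : ∀ w ∈ span F (Set.range f), minusForm k F a b w = 0 := fun w hw => by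
      obtain ⟨c, rfl⟩ := (mem_span_range_iff_exists_fun F).1 hw
      rw [qsum hf]; simp [h0]
    obtain ⟨D⟩ := FormNormal.exists_decomp (minusForm k F a b) _ ⊤ rfl (FormNormal.nd_top _ hQ)
    have h1 := FormNormal.index_eq hQ D _ hW (FormNormal.half_max hQ _ hW (by
      rw [finrank_span_eq_card hf.1, Fintype.card_fin, Module.finrank_fintype_fun_eq_card]
      simp; omega))
    rw [MinusExtend.minus_index k hab D, finrank_span_eq_card hf.1, Fintype.card_fin] at h1
    omega

theorem omegaEven_minus (k : ℕ) {a b : F} (hab : ∀ z₁ z₂ : F, z₁ ^ 2 + a * z₁ * z₂ + b * z₂ ^ 2 = 0 → z₁ = 0 ∧ z₂ = 0) :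
    OmegaEven (shape_minus k hab).nd := by
  have hQ := minusForm_nondegenerate' (F := F) k hab
  by_cases h : Fintype.card F ≠ 2 ∨ Fintype.card ((Fin k ⊕ Fin k) ⊕ Fin 2) ≠ 4
  · exact omegaEven_of_ne hQ (by simp) h
  push Not at h
  obtain ⟨hF, hc⟩ := h
  obtain rfl : k = 1 := by simp at hc; omega
  haveI : Fact (Nat.Prime 2) := ⟨Nat.prime_two⟩
  haveI : Fintype (GaloisField 2 2) := Fintype.ofFinite _
  have hK : Fintype.card (GaloisField 2 2) = 2 ^ 2 := by
    rw [← Nat.card_eq_fintype_card, GaloisField.card 2 2 (by omega)]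
  obtain ⟨iso⟩ := LowRank.pomega4_minus_iso (K := GaloisField 2 2) hF hK a b hab
  have h60 : 60 ≤ Nat.card ↥(Cfsg.Omega F (⇑(minusForm 1 F a b))) := by
    have e1 : Nat.card (Cfsg.POmega F (Cfsg.quadFormMinus 1 F a b)) = 60 := by
      have := SmallPSL.card_psl (F := GaloisField 2 2) hK
      rw [Nat.card_congr iso.toEquiv]
      norm_num at this
      omega
    rw [minusForm_coe]
    exact e1 ▸ Nat.card_le_card_of_surjective _ (QuotientGroup.mk_surjective)
  have h120 : Nat.card ↥(Cfsg.isometryGroup F (⇑(minusForm 1 F a b))) = 120 := by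
    rw [minusForm_coe, OrthCard.card_minus hab 1, Nat.card_eq_fintype_card, hF]
    simp [OrthCard.prodQ]
  set O := Cfsg.isometryGroup F (⇑(minusForm 1 F a b))
  set K := (dickson (minusForm 1 F a b) hQ).ker
  obtain ⟨v, hv⟩ := (shape_minus 1 hab).exists_ne (by omega)
  have hi : K.index = 2 := by
    rw [Subgroup.index_ker, MonoidHom.range_eq_top.2 (fun z => by
      rcases Int.units_eq_one_or z with rfl | rfl
      · exact ⟨1, map_one _⟩
      · exact ⟨_, dickson_refl _ hQ v hv⟩), Subgroup.card_top, Nat.card_eq_fintype_card]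
    rfl
  have hle : Cfsg.Omega F (⇑(minusForm 1 F a b)) ≤ K := fun g hg =>
    MonoidHom.mem_ker.2 (hom_eq_one_of_omega _ (dickson _ hQ) hg)
  have hKcard : Nat.card K = 60 := by
    have := K.card_mul_index
    rw [hi, h120] at this
    omega
  have heq := Subgroup.eq_of_le_of_card_ge hle (by omega)
  exact fun g => by rw [heq]; exact MonoidHom.mem_ker

end Cfsg.Lib.OrthInvol
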