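import Cfsg.Agent.Known.OrthInvol.Basic
import Mathlib

/-! The subgroup `Ω` and the centralisers of involutions of orthogonal groups, characteristic two. -/

set_option autoImplicit false
set_option linter.style.haveILetI false
set_option linter.unusedSectionVars false

open Matrix Submodule Cfsg.Lib.Classical Cfsg.Lib.Classical.Refl Cfsg.Lib.OmegaCls

namespace Cfsg.Lib.OrthInvol

universe u

variable {F : Type u} [Field F] [Fintype F] [CharP F 2] {ι : Type} [Fintype ι] [DecidableEq ι]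
  {Q : QuadraticForm F (ι → F)}

local notation "BQ" => QuadraticMap.polarBilin Q

/-- The subgroup `Ω` is the kernel of the Dickson invariant. -/
def OmegaEven (hQ : (QuadraticMap.polarBilin Q).Nondegenerate) : Prop :=
  ∀ g : Cfsg.isometryGroup F (⇑Q), g ∈ Cfsg.Omega F (⇑Q) ↔ dickson Q hQ g = 1

theorem omegaEven_of_ne (hQ : (BQ).Nondegenerate) (hn : 1 ≤ Fintype.card ι)
    (h : Fintype.card F ≠ 2 ∨ Fintype.card ι ≠ 4) : OmegaEven hQ :=
  dickson_iff hQ hn h

theorem mem_omega_iff_rank (hQ : (BQ).Nondegenerate) (hΩ : OmegaEven hQ) (g : Cfsg.isometryGroup F (⇑Q)) :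
    g ∈ Cfsg.Omega F (⇑Q) ↔ Even (mat Q g - 1).rank := by
  rw [hΩ g, dickson_rank hQ g]

/-- Away from the maximal alternating type an involution fixes a nonsingular vector. -/
theorem exists_fixed_ne (hQ : (BQ).Nondegenerate) {m : ℕ} (hι : Fintype.card ι = 2 * m)
    {g : Cfsg.isometryGroup F (⇑Q)} (hg : g ^ 2 = 1) (hnot : ¬ ((mat Q g - 1).rank = m ∧ IsAltO Q g)) :
    ∃ v, mat Q g *ᵥ v = v ∧ Q v ≠ 0 := by
  by_contra hex
  push Not at hex
  obtain ⟨hmax, heq⟩ := fixed_isMax hQ hι (by rw [← sq]; exact hg) hex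
  refine hnot ⟨by rw [Matrix.rank, ← Matrix.toLin'_apply', heq, hmax.1], (alt_iff_singular g).2 fun v => ?_⟩
  rw [← Matrix.toLin'_apply]
  exact hmax.2 _ (heq ▸ LinearMap.mem_range_self _ v)

theorem exists_centralizing_odd (hQ : (BQ).Nondegenerate) {m : ℕ} (hι : Fintype.card ι = 2 * m)
    {g : Cfsg.isometryGroup F (⇑Q)} (hg : g ^ 2 = 1) (hnot : ¬ ((mat Q g - 1).rank = m ∧ IsAltO Q g)) :
    ∃ r : Cfsg.isometryGroup F (⇑Q), r * g = g * r ∧ dickson Q hQ r = -1 := by
  obtain ⟨v, hv, hv0⟩ := exists_fixed_ne hQ hι hg hnot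
  exact ⟨refl Q v hv0, refl_commute g hv0 hv, dickson_refl Q hQ v hv0⟩

/-- For the maximal alternating type the centraliser lies in the kernel of the Dickson invariant. -/
theorem dickson_centralizing (hQ : (BQ).Nondegenerate) {m : ℕ} (hι : Fintype.card ι = 2 * m)
    (h : Fintype.card F ≠ 2 ∨ Fintype.card ι ≠ 4) {g : Cfsg.isometryGroup F (⇑Q)}
    (hr : (mat Q g - 1).rank = m) (ha : IsAltO Q g) {k : Cfsg.isometryGroup F (⇑Q)} (hk : k * g = g * k) :
    dickson Q hQ k = 1 := by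
  set U := LinearMap.range (Matrix.toLin' (mat Q g - 1)) with hU
  have hmax : HypQuad.IsMax Q m U := by
    refine ⟨by rw [Matrix.rank, ← Matrix.toLin'_apply'] at hr; exact hr, ?_⟩
    rintro _ ⟨v, rfl⟩
    rw [Matrix.toLin'_apply]
    exact (alt_iff_singular g).1 ha v
  refine (parity_dickson hQ hι h hmax k).1 ?_
  have hle : U.map (Matrix.mulVecLin (mat Q k)) ≤ U := by
    rintro _ ⟨_, ⟨v, rfl⟩, rfl⟩
    refine ⟨mat Q k *ᵥ v, ?_⟩
    rw [Matrix.toLin'_apply, Matrix.toLin'_apply, Matrix.mulVecLin_apply, Matrix.sub_mulVec, Matrix.one_mulVec,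
      Matrix.sub_mulVec, Matrix.one_mulVec, Matrix.mulVec_sub, ← mulVec_mul, ← mulVec_mul, hk]
  have hfr : Module.finrank F (U.map (Matrix.mulVecLin (mat Q k))) = m := by
    rw [← (Submodule.equivMapOfInjective _ (Matrix.mulVec_injective_iff_isUnit.2 k.1.isUnit) U).finrank_eq]
    exact hmax.1
  have e : U.map (Matrix.mulVecLin (mat Q k)) = U := Submodule.eq_of_le_of_finrank_eq hle (hfr.trans hmax.1.symm)
  show Even (m - Module.finrank F ↥(U ⊓ U.map (Matrix.mulVecLin (mat Q k))))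
  rw [e, inf_idem, hmax.1, Nat.sub_self]
  exact ⟨0, rfl⟩

theorem card_omega_commute (hQ : (BQ).Nondegenerate) (hΩ : OmegaEven hQ) (g : Cfsg.isometryGroup F (⇑Q)) :
    Nat.card {k : ↥(Cfsg.Omega F (⇑Q)) // (k : Cfsg.isometryGroup F (⇑Q)) * g = g * k} =
      Nat.card {k : Cfsg.isometryGroup F (⇑Q) // k * g = g * k ∧ dickson Q hQ k = 1} :=
  Nat.card_congr
    { toFun := fun k => ⟨k.1.1, k.2, (hΩ _).1 k.1.2⟩
      invFun := fun k => ⟨⟨k.1, (hΩ _).2 k.2.2⟩, k.2.1⟩
      left_inv := fun k => rfl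
      right_inv := fun k => rfl }

theorem card_commute_half (hQ : (BQ).Nondegenerate) {g r : Cfsg.isometryGroup F (⇑Q)} (hr : r * g = g * r)
    (hd : dickson Q hQ r = -1) :
    2 * Nat.card {k : Cfsg.isometryGroup F (⇑Q) // k * g = g * k ∧ dickson Q hQ k = 1} =
      Nat.card ↥(Subgroup.centralizer ({g} : Set (Cfsg.isometryGroup F (⇑Q)))) := by
  set C := Subgroup.centralizer ({g} : Set (Cfsg.isometryGroup F (⇑Q)))
  let φ := (dickson Q hQ).comp C.subtype
  have hs : Function.Surjective φ := fun z => by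
    rcases Int.units_eq_one_or z with rfl | rfl
    · exact ⟨1, map_one φ⟩
    · exact ⟨⟨r, Subgroup.mem_centralizer_singleton_iff.2 hr⟩, hd⟩
  have hi : φ.ker.index = 2 := by
    rw [Subgroup.index_ker, MonoidHom.range_eq_top.2 hs, Subgroup.card_top, Nat.card_eq_fintype_card]; rfl
  have e : Nat.card φ.ker = Nat.card {k : Cfsg.isometryGroup F (⇑Q) // k * g = g * k ∧ dickson Q hQ k = 1} :=
    Nat.card_congr
      { toFun := fun k => ⟨k.1.1, Subgroup.mem_centralizer_singleton_iff.1 k.1.2, MonoidHom.mem_ker.1 k.2⟩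
        invFun := fun k => ⟨⟨k.1, Subgroup.mem_centralizer_singleton_iff.2 k.2.1⟩, MonoidHom.mem_ker.2 k.2.2⟩
        left_inv := fun k => rfl
        right_inv := fun k => rfl }
  rw [← e, ← φ.ker.card_mul_index, hi, mul_comm]

end Cfsg.Lib.OrthInvol
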