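import Cfsg.Agent.Known.OrthInvol.Count
import Mathlib

/-! Centralisers in `Ω` of involutions, plus type, characteristic two. -/

set_option autoImplicit false
set_option linter.style.haveILetI false
set_option linter.unusedSectionVars false

open Matrix Cfsg.Lib.Classical Cfsg.Lib.Classical.Refl Cfsg.Lib.SympInvol

namespace Cfsg.Lib.OrthInvol

universe u

variable {F : Type u} [Field F] [Fintype F] [CharP F 2] {m : ℕ}

local notation "QP" => HypQuad.plusForm m F

theorem omega_plus (hm : 1 ≤ m) (h : Fintype.card F ≠ 2 ∨ m ≠ 2) :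
    OmegaEven (shape_plus (F := F) m).nd ∧ (Fintype.card F ≠ 2 ∨ Fintype.card (Fin m ⊕ Fin m) ≠ 4) := by
  have h' : Fintype.card F ≠ 2 ∨ Fintype.card (Fin m ⊕ Fin m) ≠ 4 :=
    h.imp id fun h h4 => h (by simp at h4; omega)
  exact ⟨omegaEven_of_ne _ (by simp; omega) h', h'⟩

theorem cent_non {s j : ℕ} (h : Fintype.card F ≠ 2 ∨ m ≠ 2) {x : Cfsg.isometryGroup F (⇑QP)} (hx : x ^ 2 = 1)
    (hs : (mat QP x - 1).rank = s + 1) (hj : s + (j + 1) = m) (ha : ¬ IsAltO QP x) :
    Nat.card {g : ↥(Cfsg.Omega F (⇑QP)) // (g : Cfsg.isometryGroup F (⇑QP)) * x = x * g} =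
      Fintype.card F ^ (2 * s * j + (s + 1) * s / 2) * spCard (Fintype.card F) j * oneCard (Fintype.card F) (s + 1) := by
  have hm : 1 ≤ m := by omega
  obtain ⟨hΩ, -⟩ := omega_plus (F := F) hm h
  obtain ⟨r, hr, hd⟩ := exists_centralizing_odd (shape_plus (F := F) m).nd (shape_plus (F := F) m).card_eq hx
    (fun h => ha h.2)
  have h1 := card_commute_half (shape_plus (F := F) m).nd hr hd
  rw [card_centralizer_non hx hj hs ha] at h1
  rw [card_omega_commute (shape_plus (F := F) m).nd hΩ x]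
  omega

theorem cent_alt {r j : ℕ} (hm : 1 ≤ m) (h : Fintype.card F ≠ 2 ∨ m ≠ 2) {x : Cfsg.isometryGroup F (⇑QP)} (hx : x ^ 2 = 1)
    (hs : (mat QP x - 1).rank = 2 * r) (hj : 2 * r + j = m) (ha : IsAltO QP x) :
    Nat.card {g : ↥(Cfsg.Omega F (⇑QP)) // (g : Cfsg.isometryGroup F (⇑QP)) * x = x * g} =
      Fintype.card F ^ (2 * (2 * r) * j + 2 * r * (2 * r - 1) / 2) * spCard (Fintype.card F) r *
        (if j = 0 then 1 else Fintype.card F ^ (j * (j - 1)) * (Fintype.card F ^ j - 1) *
          ∏ i ∈ Finset.range (j - 1), (Fintype.card F ^ (2 * (i + 1)) - 1)) := by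
  obtain ⟨hΩ, h'⟩ := omega_plus (F := F) hm h
  rw [card_omega_commute (shape_plus (F := F) m).nd hΩ x]
  have hc := card_centralizer_alt hx hj hm hs ha
  rcases j with - | j
  · rw [if_pos rfl]
    have he : Nat.card {k : Cfsg.isometryGroup F (⇑QP) // k * x = x * k ∧ dickson QP (shape_plus (F := F) m).nd k = 1} =
        Nat.card ↥(Subgroup.centralizer ({x} : Set (Cfsg.isometryGroup F (⇑QP)))) :=
      Nat.card_congr (Equiv.subtypeEquivRight fun k => ⟨fun hk => Subgroup.mem_centralizer_singleton_iff.2 hk.1,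
        fun hk => ⟨Subgroup.mem_centralizer_singleton_iff.1 hk, dickson_centralizing (shape_plus (F := F) m).nd
          (shape_plus (F := F) m).card_eq h' (by omega) ha (Subgroup.mem_centralizer_singleton_iff.1 hk)⟩⟩)
    rw [he, hc]
    simp [oCard]
  · rw [if_neg (Nat.succ_ne_zero j), Nat.add_sub_cancel]
    obtain ⟨k, hk, hd⟩ := exists_centralizing_odd (shape_plus (F := F) m).nd (shape_plus (F := F) m).card_eq hx
      (fun h => by have := hs.symm.trans h.1; omega)
    have h1 := card_commute_half (shape_plus (F := F) m).nd hk hd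
    rw [hc, oCard, OrthCard.prodQ] at h1
    refine Nat.eq_of_mul_eq_mul_left two_pos (h1.trans ?_)
    ring

end Cfsg.Lib.OrthInvol
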