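import Cfsg.Agent.Known.OrthInvol.Basic
import Mathlib

/-! Involutions of orthogonal groups are conjugate when they are so under the isometries of the polar form. -/

set_option autoImplicit false
set_option linter.unusedSectionVars false

open Matrix Cfsg.Lib.Classical Cfsg.Lib.Classical.Refl

namespace Cfsg.Lib.OrthInvol

universe u

variable {F : Type u} [Field F] [Fintype F] [CharP F 2] {ι : Type} [Fintype ι] [DecidableEq ι]
  {Q : QuadraticForm F (ι → F)}

theorem conj_iff_symp {f : (ι → F) → F} (hf : ⇑Q = f) (hQ : (QuadraticMap.polarBilin Q).Nondegenerate)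
    (t s : ↥(Cfsg.isometryGroup F f)) (ht : orderOf t = 2) (hs : orderOf s = 2) :
    IsConj t s ↔ ∃ g ∈ Cfsg.preserving (Units.coeHom (Matrix ι ι F)) (fun u v => f (u + v) - f u - f v),
      g * (t : GL ι F) * g⁻¹ = (s : GL ι F) := by
  subst hf
  constructor
  · intro h
    obtain ⟨k, rfl⟩ := isConj_iff.1 h
    exact ⟨(k : GL ι F), fun u v => (toBI Q k).2 u v, rfl⟩
  · rintro ⟨g, hg, he⟩
    have he2 : (g : Matrix ι ι F) * mat Q t = mat Q s * (g : Matrix ι ι F) :=
      congrArg (fun z : GL ι F => (z : Matrix ι ι F)) (mul_inv_eq_iff_eq_mul.1 he)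
    have hdet : IsUnit (g : Matrix ι ι F).det := (Matrix.isUnit_iff_isUnit_det _).1 g.isUnit
    refine (isConj_iff_invariants hQ ((order_two_iff t).1 ht).1 ((order_two_iff s).1 hs).1).2 ⟨?_, ?_⟩
    · have e : (g : Matrix ι ι F) * (mat Q t - 1) = (mat Q s - 1) * (g : Matrix ι ι F) := by
        rw [mul_sub, sub_mul, mul_one, one_mul, he2]
      rw [← Matrix.rank_mul_eq_right_of_isUnit_det (g : Matrix ι ι F) (mat Q t - 1) hdet, e,
        Matrix.rank_mul_eq_left_of_isUnit_det _ _ hdet]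
    · have key : ∀ v, QuadraticMap.polar (⇑Q) ((g : Matrix ι ι F) *ᵥ v) (mat Q s *ᵥ ((g : Matrix ι ι F) *ᵥ v)) =
          QuadraticMap.polar (⇑Q) v (mat Q t *ᵥ v) := fun v => by
        rw [Matrix.mulVec_mulVec, ← he2, ← Matrix.mulVec_mulVec]
        exact hg v _
      refine ⟨fun h v => ?_, fun h v => by rw [← key]; exact h _⟩
      obtain ⟨w, rfl⟩ : ∃ w, (g : Matrix ι ι F) *ᵥ w = v :=
        (Matrix.mulVec_surjective_iff_isUnit.2 g.isUnit) v
      rw [key]; exact h w

end Cfsg.Lib.OrthInvol
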